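import Mathlib

set_option autoImplicit false

/-!
Piece (A2) of helper4's S2551 split project: a subgroup of `GL_4(F)`, `|F| = 2`, fixing two
distinct nonzero vectors has order dividing `96`.  Proof: it acts freely on the `96` pairs
`(x, y)` with `x, y, x + y ∉ {0, v, w, v + w}`.
-/

namespace Cfsg.Agent.Lib.helper21.A7A2

open Matrix in
theorem card_fix_pair_dvd {F : Type*} [Field F] [Fintype F] (hF : Fintype.card F = 2)
    (v w : Fin 4 → F) (hv : v ≠ 0) (hw : w ≠ 0) (hvw : v ≠ w)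
    (K : Subgroup (Matrix.GeneralLinearGroup (Fin 4) F))
    (hK : ∀ g ∈ K, (g : Matrix (Fin 4) (Fin 4) F).mulVec v = v ∧
      (g : Matrix (Fin 4) (Fin 4) F).mulVec w = w) : Nat.card K ∣ 96 := by
  classical
  have h01 : ∀ a : F, a = 0 ∨ a = 1 := by
    intro a
    by_contra h
    push Not at h
    have h3 : ({0, 1, a} : Finset F).card = 3 :=
      Finset.card_eq_three.mpr ⟨0, 1, a, zero_ne_one, h.1.symm, h.2.symm, rfl⟩
    have := Finset.card_le_univ ({0, 1, a} : Finset F)
    rw [hF, h3] at this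
    omega
  have h11 : (1 : F) + 1 = 0 := by
    rcases h01 (1 + 1) with h | h
    · exact h
    · exact absurd (add_eq_left.mp h) one_ne_zero
  have hVV : ∀ a : Fin 4 → F, a + a = 0 := by
    intro a
    funext i
    have : a i + a i = (1 + 1) * a i := by ring
    simp only [Pi.add_apply, Pi.zero_apply, this, h11, zero_mul]
  have hVcard : Fintype.card (Fin 4 → F) = 16 := by
    rw [Fintype.card_fun, hF, Fintype.card_fin]; norm_num
  -- the plane `R = {0, v, w, v + w}`
  let ℓ : F × F → (Fin 4 → F) := fun c => c.1 • v + c.2 • w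
  have hℓsub : ∀ c d, ℓ (c - d) = ℓ c - ℓ d := by
    intro c d
    simp only [ℓ, Prod.fst_sub, Prod.snd_sub, sub_smul]; abel
  have hℓker : ∀ c, ℓ c = 0 → c = 0 := by
    rintro ⟨s, t⟩ h
    simp only [ℓ] at h
    rcases h01 s with rfl | rfl <;> rcases h01 t with rfl | rfl
    · rfl
    · exfalso; simp at h; exact hw h
    · exfalso; simp at h; exact hv h
    · exfalso
      simp at h
      exact hvw (add_right_cancel (h.trans (hVV w).symm))
  have hℓinj : Function.Injective ℓ := by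
    intro c d h
    have := hℓker (c - d) (by rw [hℓsub, h, sub_self])
    exact sub_eq_zero.mp this
  let R : Finset (Fin 4 → F) := Finset.univ.image ℓ
  have hRcard : R.card = 4 := by
    rw [Finset.card_image_of_injective _ hℓinj, Finset.card_univ, Fintype.card_prod, hF]
  have hRmem : ∀ a, a ∈ R ↔ ∃ c, ℓ c = a := by intro a; simp [R]
  -- counting
  have hB : ∀ x, x ∉ R → (Finset.univ \ (R ∪ R.image (fun r => x + r))).card = 8 := by
    intro x hx
    have hdisj : Disjoint R (R.image (fun r => x + r)) := by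
      rw [Finset.disjoint_left]
      intro a ha ha'
      obtain ⟨r, hr, rfl⟩ := Finset.mem_image.mp ha'
      obtain ⟨c, hc⟩ := (hRmem _).mp ha
      obtain ⟨d, hd⟩ := (hRmem _).mp hr
      apply hx
      rw [hRmem]
      refine ⟨c - d, ?_⟩
      rw [hℓsub, hc, hd]; abel
    have hcard2 : (R.image (fun r => x + r)).card = 4 := by
      rw [Finset.card_image_of_injective _ (add_right_injective x), hRcard]
    rw [Finset.card_univ_sdiff, Finset.card_union_of_disjoint hdisj, hRcard, hcard2, hVcard]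
  have hfib : ∀ a : Fin 4 → F,
      Fintype.card {b : Fin 4 → F // a ∉ R ∧ b ∉ R ∧ a + b ∉ R} = if a ∈ R then 0 else 8 := by
    intro a
    by_cases ha : a ∈ R
    · rw [if_pos ha, Fintype.card_eq_zero_iff]
      exact ⟨fun b => b.2.1 ha⟩
    · rw [if_neg ha, Fintype.card_subtype, ← hB a ha]
      congr 1
      ext b
      simp only [Finset.mem_filter, Finset.mem_univ, true_and, Finset.mem_sdiff,
        Finset.mem_union, Finset.mem_image, not_or, not_exists, not_and]
      constructor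
      · rintro ⟨-, hb, hab⟩
        refine ⟨hb, fun r hr h => hab ?_⟩
        rw [← h]
        have : a + (a + r) = r := by rw [← add_assoc, hVV a, zero_add]
        rw [this]; exact hr
      · rintro ⟨hb, hab⟩
        refine ⟨ha, hb, fun h => hab (a + b) h ?_⟩
        rw [← add_assoc, hVV a, zero_add]
  have h12 : (Finset.univ.filter (fun a : Fin 4 → F => a ∉ R)).card = 12 := by
    have : Finset.univ.filter (fun a : Fin 4 → F => a ∉ R) = Finset.univ \ R := by
      ext a; simp
    rw [this, Finset.card_univ_sdiff, hRcard, hVcard]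
  have hT : Fintype.card {p : (Fin 4 → F) × (Fin 4 → F) // p.1 ∉ R ∧ p.2 ∉ R ∧ p.1 + p.2 ∉ R}
      = 96 := by
    rw [Fintype.card_congr (Equiv.subtypeProdEquivSigmaSubtype
      (fun a b : Fin 4 → F => a ∉ R ∧ b ∉ R ∧ a + b ∉ R)), Fintype.card_sigma]
    rw [Finset.sum_congr rfl (fun a _ => hfib a), Finset.sum_ite, Finset.sum_const_zero,
      zero_add, Finset.sum_const, h12]
    rfl
  -- the elements of `K` fix `R` pointwise and are injective
  have hgR : ∀ g ∈ K, ∀ a, a ∈ R → (g : Matrix (Fin 4) (Fin 4) F).mulVec a = a := by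
    intro g hg a ha
    obtain ⟨c, rfl⟩ := (hRmem a).mp ha
    simp only [ℓ, Matrix.mulVec_add, Matrix.mulVec_smul, (hK g hg).1, (hK g hg).2]
  have hginj : ∀ g : Matrix.GeneralLinearGroup (Fin 4) F,
      Function.Injective (g : Matrix (Fin 4) (Fin 4) F).mulVec := by
    intro g a b h
    have h1 := congrArg ((g⁻¹ : Matrix.GeneralLinearGroup (Fin 4) F) :
      Matrix (Fin 4) (Fin 4) F).mulVec h
    rw [Matrix.mulVec_mulVec, Matrix.mulVec_mulVec, Units.inv_mul, Matrix.one_mulVec,
      Matrix.one_mulVec] at h1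
    exact h1
  have hgR' : ∀ g ∈ K, ∀ a, a ∉ R → (g : Matrix (Fin 4) (Fin 4) F).mulVec a ∉ R := by
    intro g hg a ha h
    have e := hginj g (hgR g hg _ h)
    rw [e] at h
    exact ha h
  -- the action on `T`
  let act : MulAction K {p : (Fin 4 → F) × (Fin 4 → F) // p.1 ∉ R ∧ p.2 ∉ R ∧ p.1 + p.2 ∉ R} :=
    { smul := fun g p =>
        ⟨((g.1 : Matrix (Fin 4) (Fin 4) F).mulVec p.1.1,
          (g.1 : Matrix (Fin 4) (Fin 4) F).mulVec p.1.2),
          hgR' g.1 g.2 _ p.2.1, hgR' g.1 g.2 _ p.2.2.1, by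
            show (g.1 : Matrix (Fin 4) (Fin 4) F).mulVec p.1.1 +
              (g.1 : Matrix (Fin 4) (Fin 4) F).mulVec p.1.2 ∉ R
            rw [← Matrix.mulVec_add]; exact hgR' g.1 g.2 _ p.2.2.2⟩
      one_smul := by
        rintro ⟨⟨x, y⟩, hp⟩
        apply Subtype.ext
        show ((((1 : K) : Matrix.GeneralLinearGroup (Fin 4) F) :
            Matrix (Fin 4) (Fin 4) F).mulVec x,
          (((1 : K) : Matrix.GeneralLinearGroup (Fin 4) F) :
            Matrix (Fin 4) (Fin 4) F).mulVec y) = (x, y)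
        simp
      mul_smul := by
        rintro g h ⟨⟨x, y⟩, hp⟩
        apply Subtype.ext
        show ((((g * h : K) : Matrix.GeneralLinearGroup (Fin 4) F) :
            Matrix (Fin 4) (Fin 4) F).mulVec x,
          (((g * h : K) : Matrix.GeneralLinearGroup (Fin 4) F) :
            Matrix (Fin 4) (Fin 4) F).mulVec y) =
          ((g.1 : Matrix (Fin 4) (Fin 4) F).mulVec
              ((h.1 : Matrix (Fin 4) (Fin 4) F).mulVec x),
            (g.1 : Matrix (Fin 4) (Fin 4) F).mulVec
              ((h.1 : Matrix (Fin 4) (Fin 4) F).mulVec y))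
        simp [Matrix.mulVec_mulVec] }
  have hsmul : ∀ (g : K) (p : {p : (Fin 4 → F) × (Fin 4 → F) //
      p.1 ∉ R ∧ p.2 ∉ R ∧ p.1 + p.2 ∉ R}),
      ((g • p : {p : (Fin 4 → F) × (Fin 4 → F) // p.1 ∉ R ∧ p.2 ∉ R ∧ p.1 + p.2 ∉ R}) :
        (Fin 4 → F) × (Fin 4 → F)) =
      ((g.1 : Matrix (Fin 4) (Fin 4) F).mulVec p.1.1,
        (g.1 : Matrix (Fin 4) (Fin 4) F).mulVec p.1.2) := fun _ _ => rfl
  -- freeness
  have hfree : ∀ (g : K) (p : {p : (Fin 4 → F) × (Fin 4 → F) //
      p.1 ∉ R ∧ p.2 ∉ R ∧ p.1 + p.2 ∉ R}), g • p = p → g = 1 := by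
    rintro g ⟨⟨x, y⟩, hx, hy, hxy⟩ hgp
    have hgp' := congrArg Subtype.val hgp
    rw [hsmul] at hgp'
    have hgx : (g.1 : Matrix (Fin 4) (Fin 4) F).mulVec x = x := congrArg Prod.fst hgp'
    have hgy : (g.1 : Matrix (Fin 4) (Fin 4) F).mulVec y = y := congrArg Prod.snd hgp'
    let L : (Fin 4 → F) → (Fin 4 → F) := fun ε => ℓ (ε 0, ε 1) + ε 2 • x + ε 3 • y
    have hLsub : ∀ ε ε', L (ε - ε') = L ε - L ε' := by
      intro ε ε'
      have h1 : ℓ ((ε - ε') 0, (ε - ε') 1) = ℓ (ε 0, ε 1) - ℓ (ε' 0, ε' 1) :=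
        hℓsub (ε 0, ε 1) (ε' 0, ε' 1)
      show ℓ ((ε - ε') 0, (ε - ε') 1) + (ε - ε') 2 • x + (ε - ε') 3 • y =
        (ℓ (ε 0, ε 1) + ε 2 • x + ε 3 • y) - (ℓ (ε' 0, ε' 1) + ε' 2 • x + ε' 3 • y)
      rw [h1]
      simp only [Pi.sub_apply, sub_smul]; abel
    have hLker : ∀ ε, L ε = 0 → ε = 0 := by
      intro ε h
      simp only [L] at h
      have hR0 : ∀ c : F × F, ℓ c ∈ R := fun c => (hRmem _).mpr ⟨c, rfl⟩
      have hneg : ∀ a b : Fin 4 → F, a + b = 0 → b = a := fun a b hab =>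
        add_left_cancel (hab.trans (hVV a).symm)
      rcases h01 (ε 2) with h2 | h2 <;> rcases h01 (ε 3) with h3 | h3
      · rw [h2, h3, zero_smul, zero_smul, add_zero, add_zero] at h
        have h4 := hℓker _ h
        have h40 : ε 0 = 0 := congrArg Prod.fst h4
        have h41 : ε 1 = 0 := congrArg Prod.snd h4
        funext i
        fin_cases i
        · exact h40
        · exact h41
        · exact h2
        · exact h3
      · exfalso
        rw [h2, h3, zero_smul, one_smul, add_zero] at h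
        exact hy (hneg _ _ h ▸ hR0 _)
      · exfalso
        rw [h2, h3, zero_smul, one_smul, add_zero] at h
        exact hx (hneg _ _ h ▸ hR0 _)
      · exfalso
        rw [h2, h3, one_smul, one_smul, add_assoc] at h
        exact hxy (hneg _ _ h ▸ hR0 _)
    have hLinj : Function.Injective L := by
      intro ε ε' h
      have := hLker (ε - ε') (by rw [hLsub, h, sub_self])
      exact sub_eq_zero.mp this
    have hLsurj : Function.Surjective L := Finite.surjective_of_injective hLinj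
    have hM : (g.1 : Matrix (Fin 4) (Fin 4) F) = 1 := by
      rw [Matrix.ext_iff_mulVec]
      intro a
      obtain ⟨ε, rfl⟩ := hLsurj a
      rw [Matrix.one_mulVec]
      simp only [L, Matrix.mulVec_add, Matrix.mulVec_smul, hgx, hgy,
        hgR g.1 g.2 _ ((hRmem _).mpr ⟨_, rfl⟩)]
    exact Subtype.ext (Units.ext hM)
  -- Burnside
  haveI hfixfin : ∀ g : K, Fintype (MulAction.fixedBy
      {p : (Fin 4 → F) × (Fin 4 → F) // p.1 ∉ R ∧ p.2 ∉ R ∧ p.1 + p.2 ∉ R} g) :=
    fun g => Fintype.ofFinite _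
  haveI hquotfin : Fintype (Quotient (MulAction.orbitRel K
      {p : (Fin 4 → F) × (Fin 4 → F) // p.1 ∉ R ∧ p.2 ∉ R ∧ p.1 + p.2 ∉ R})) :=
    Fintype.ofFinite _
  have hburn := MulAction.sum_card_fixedBy_eq_card_orbits_mul_card_group K
    {p : (Fin 4 → F) × (Fin 4 → F) // p.1 ∉ R ∧ p.2 ∉ R ∧ p.1 + p.2 ∉ R}
  have hsum : (∑ g : K, Fintype.card (MulAction.fixedBy
      {p : (Fin 4 → F) × (Fin 4 → F) // p.1 ∉ R ∧ p.2 ∉ R ∧ p.1 + p.2 ∉ R} g)) = 96 := by
    rw [Finset.sum_eq_single (1 : K)]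
    · rw [← hT]
      apply Fintype.card_congr
      exact (Equiv.subtypeUnivEquiv (fun p => by simp [MulAction.mem_fixedBy]))
    · intro g _ hg
      rw [Fintype.card_eq_zero_iff]
      exact ⟨fun p => hg (hfree g p.1 p.2)⟩
    · intro h; exact absurd (Finset.mem_univ _) h
  rw [hsum] at hburn
  rw [Nat.card_eq_fintype_card]
  exact Dvd.intro_left _ hburn.symm

end Cfsg.Agent.Lib.helper21.A7A2
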