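import Mathlib

set_option autoImplicit false

/-!
Piece (A4) of helper4's S2551 split project: there are `15 * 14 = 210` ordered pairs of distinct
nonzero vectors in `F^4`, `|F| = 2`.
-/

namespace Cfsg.Agent.Lib.helper21.A7A4

theorem card_pairs {F : Type*} [Field F] [Fintype F] (hF : Fintype.card F = 2) :
    Nat.card {p : (Fin 4 → F) × (Fin 4 → F) // p.1 ≠ 0 ∧ p.2 ≠ 0 ∧ p.1 ≠ p.2} = 210 := by
  classical
  have hV : Fintype.card (Fin 4 → F) = 16 := by
    rw [Fintype.card_fun, hF, Fintype.card_fin]; norm_num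
  have hs : ((Finset.univ : Finset (Fin 4 → F)).erase 0).card = 15 := by
    rw [Finset.card_erase_of_mem (Finset.mem_univ _), Finset.card_univ, hV]
  have hsub : ∀ p : (Fin 4 → F) × (Fin 4 → F),
      p ∈ ((Finset.univ : Finset (Fin 4 → F)).erase 0).offDiag ↔
        (p.1 ≠ 0 ∧ p.2 ≠ 0 ∧ p.1 ≠ p.2) := by
    intro p
    simp [Finset.mem_offDiag]
  rw [Nat.card_congr (Equiv.subtypeEquivRight (fun p => (hsub p).symm))]
  rw [Nat.card_eq_fintype_card, Fintype.card_coe, Finset.offDiag_card, hs]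

end Cfsg.Agent.Lib.helper21.A7A4
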