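import Mathlib
import Cfsg.Agent.Lib.helper15.S1454E
import Cfsg.Agent.Lib.helper14.S1454AB
import Cfsg.Agent.Lib.helper12.S1454X1
import Cfsg.Agent.Lib.helper13.S1454X2
import Cfsg.Agent.Lib.helper21.S1454X3r

set_option autoImplicit false

/-!
Backup assembly of piece (T3b) of the S1454 split (helper8's signature): `|R| = p ^ 3` for a
nonabelian `p`-group `R` of rank at most 2 with `R = [R, A]`, `|A|` a prime not dividing
`p (p - 1)`.  Pieces: helper15 `exists_critical_plus`, helper14 `abelian_case`, helper12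
`extraspecial_of_rank`, helper13 `prod_centralizer`, `cent_centralizer_rel`.
-/

namespace Cfsg.Agent.Lib.helper21.S1454T3b

open scoped commutatorElement

theorem part_three_b {G : Type*} [Group G] [Finite G] (p : ℕ) [Fact p.Prime] (hp : p ≠ 2)
    (R A : Subgroup G) (hR : IsPGroup p R) (hr2 : Cfsg.PRankLE p 2 R)
    (hA : A ≤ Subgroup.normalizer (R : Set G)) (hAodd : Odd (Nat.card A))
    (hfaith : A ⊓ Subgroup.centralizer (R : Set G) = ⊥) (hq : (Nat.card A).Prime)
    (hq1 : ¬ Nat.card A ∣ p * (p - 1)) (hRA : ⁅R, A⁆ = R) (hnc : ¬ IsMulCommutative R) :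
    Nat.card R = p ^ 3 := by
  obtain ⟨D, hDR, hDexp, hDcl, hDnorm, hDcrit, hDcomm⟩ :=
    Cfsg.Agent.Lib.helper15.S1454E.exists_critical_plus p hp R hR
  by_cases hDab : ∀ x ∈ D, ∀ y ∈ D, x * y = y * x
  · exact absurd (Cfsg.Agent.Lib.helper14.S1454AB.abelian_case p hp R A D hR hr2 hA hq hq1 hRA hDR
      hDexp hDnorm hDcrit hDab) hnc
  · have hnc' : ∃ x ∈ D, ∃ y ∈ D, x * y ≠ y * x := by
      by_contra hcon
      apply hDab
      intro x hx y hy
      by_contra hxy
      exact hcon ⟨x, hx, y, hy, hxy⟩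
    have hr' : ∀ B : Subgroup G, B ≤ R → (∀ x ∈ B, ∀ y ∈ B, x * y = y * x) →
        (∀ x ∈ B, x ^ p = 1) → Nat.card B ≤ p ^ 2 :=
      fun B hB hc he => Cfsg.Agent.Lib.helper14.S1454AB.rank_le_sq p R hr2 B hB hc he
    have hrkD : ∀ B : Subgroup G, B ≤ D → (∀ x ∈ B, ∀ y ∈ B, x * y = y * x) →
        Nat.card B ≤ p ^ 2 :=
      fun B hB hc => hr' B (hB.trans hDR) hc (fun x hx => hDexp x (hB hx))
    obtain ⟨hD3, hZ⟩ :=
      Cfsg.Agent.Lib.helper12.S1454X1.extraspecial_of_rank p D hDexp hDcl hrkD hnc'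
    have hRD : R ≤ Subgroup.normalizer (D : Set G) := Subgroup.le_normalizer.trans hDnorm
    have hprod := Cfsg.Agent.Lib.helper13.S1454X2.prod_centralizer p R D hR hDR hD3 hZ hRD hDcomm
    have hcop : ∀ a ∈ A, (orderOf a).Coprime (p * (p - 1)) := by
      intro a ha
      have h1 : orderOf a ∣ Nat.card A := by
        have := orderOf_dvd_natCard (⟨a, ha⟩ : ↥A)
        rwa [Subgroup.orderOf_mk] at this
      exact Nat.Coprime.coprime_dvd_left h1 ((Nat.Prime.coprime_iff_not_dvd hq).mpr hq1)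
    have hcent : ∀ a ∈ A, ∀ c ∈ R ⊓ Subgroup.centralizer (D : Set G), a * c = c * a :=
      fun a ha => Cfsg.Agent.Lib.helper21.S1454X3r.cent_centralizer_rel p hp R D hR hDR hr' hDexp
        hD3 hZ a (hA ha) (hDnorm (hA ha)) (hcop a ha)
    have hle : ⁅R, A⁆ ≤ D := by
      rw [Subgroup.commutator_le]
      intro r hr a ha
      obtain ⟨d, hd, c, hc, rfl⟩ := hprod r hr
      have h1 := hcent a ha c hc
      have haD := Subgroup.mem_normalizer_iff.mp (hDnorm (hA ha))
      have h2 : a * d⁻¹ * a⁻¹ ∈ D := (haD d⁻¹).mp (D.inv_mem hd)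
      have h3 : ⁅d * c, a⁆ = d * (a * d⁻¹ * a⁻¹) := by
        rw [commutatorElement_def]
        have e1 : d * c * a * (d * c)⁻¹ * a⁻¹ = d * (c * a) * c⁻¹ * d⁻¹ * a⁻¹ := by group
        rw [e1, ← h1]
        group
      rw [h3]
      exact D.mul_mem hd h2
    have hRD' : R = D := le_antisymm (hRA ▸ hle) hDR
    rw [hRD', hD3]

end Cfsg.Agent.Lib.helper21.S1454T3b
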