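import Mathlib

set_option autoImplicit false
set_option linter.unusedSectionVars false
open Equiv

/-!
Tools for `S4349`: for a finite set `O` and a permutation `y` supported in `O`, `TT O y` is the
join of all 2-subgroups of `symO O` containing `y`; `Good O y` says that it is a self-normalising
2-group.  `glue` (in `Syl2B`) passes `Good` from two blocks to their union.
-/

namespace Cfsg.Agent.Lib.helper21.Syl2

variable {α : Type*} [DecidableEq α] [Fintype α]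

theorem app_inv (g : Perm α) (a : α) : g (g⁻¹ a) = a := g.apply_symm_apply a

theorem inv_app (g : Perm α) (a : α) : g⁻¹ (g a) = a := g.symm_apply_apply a

/-- permutations fixing every point outside `O` -/
def symO (O : Finset α) : Subgroup (Perm α) where
  carrier := {g | ∀ a, a ∉ O → g a = a}
  mul_mem' := by
    intro g h hg hh a ha
    rw [Perm.mul_apply, hh a ha, hg a ha]
  one_mem' := by intro a _; rfl
  inv_mem' := by
    intro g hg a ha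
    rw [Perm.inv_eq_iff_eq]; exact (hg a ha).symm

/-- `g` maps `A` onto `B` -/
def mp (A B : Finset α) (g : Perm α) : Prop := ∀ a, g a ∈ B ↔ a ∈ A

theorem mp_inv {A B : Finset α} {g : Perm α} (h : mp A B g) : mp B A g⁻¹ := by
  intro a
  have := h (g⁻¹ a)
  rw [app_inv] at this
  exact this.symm

theorem mp_mul {A B C : Finset α} {g h : Perm α} (hh : mp A B h) (hg : mp B C g) :
    mp A C (g * h) := by
  intro a
  rw [Perm.mul_apply, hg, hh]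

theorem mp_one (A : Finset α) : mp A A (1 : Perm α) := fun _ => Iff.rfl

theorem pres_of_maps {Ω : Finset α} {g : Perm α} (h : ∀ a ∈ Ω, g a ∈ Ω) : mp Ω Ω g := by
  intro a
  refine ⟨fun ha => ?_, h a⟩
  have himg : Ω.image g = Ω := by
    apply Finset.eq_of_subset_of_card_le
    · intro b hb
      obtain ⟨c, hc, rfl⟩ := Finset.mem_image.1 hb
      exact h c hc
    · rw [Finset.card_image_of_injective _ g.injective]
  rw [← himg] at ha
  obtain ⟨c, hc, hca⟩ := Finset.mem_image.1 ha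
  rwa [← g.injective hca]

theorem pres_symO {O : Finset α} {g : Perm α} (hg : g ∈ symO O) : mp O O g := by
  apply pres_of_maps
  intro a ha
  by_contra h
  have h1 : g (g a) = g a := hg (g a) h
  have h2 : g a = a := g.injective h1
  rw [h2] at h
  exact h ha

theorem symO_mono {A B : Finset α} (h : A ⊆ B) : symO A ≤ symO B :=
  fun _ hg a ha => hg a (fun h' => ha (h h'))

theorem conj_symO {A B : Finset α} {g t : Perm α} (hg : mp A B g) (ht : t ∈ symO A) :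
    g * t * g⁻¹ ∈ symO B := by
  intro a ha
  have h1 : g⁻¹ a ∉ A := fun h' => ha (by
    have := (hg (g⁻¹ a)).2 h'
    rwa [app_inv] at this)
  simp only [Perm.mul_apply]
  rw [ht _ h1, app_inv]

theorem pres_compl {Ω₁ Ω₂ : Finset α} {g : Perm α} (hd : Disjoint Ω₁ Ω₂)
    (hg : g ∈ symO (Ω₁ ∪ Ω₂)) (hp : mp Ω₁ Ω₁ g) : mp Ω₂ Ω₂ g := by
  intro a
  have hO := pres_symO hg a
  have h1 := hp a
  simp only [Finset.mem_union] at hO
  have d1 : a ∈ Ω₁ → a ∉ Ω₂ := fun h => Finset.disjoint_left.1 hd h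
  have d2 : g a ∈ Ω₁ → g a ∉ Ω₂ := fun h => Finset.disjoint_left.1 hd h
  tauto

theorem mp_compl {Ω₁ Ω₂ : Finset α} {g : Perm α} (hd : Disjoint Ω₁ Ω₂)
    (hg : g ∈ symO (Ω₁ ∪ Ω₂)) (hp : mp Ω₁ Ω₂ g) : mp Ω₂ Ω₁ g := by
  intro a
  have hO := pres_symO hg a
  have h1 := hp a
  simp only [Finset.mem_union] at hO
  have d1 : a ∈ Ω₁ → a ∉ Ω₂ := fun h => Finset.disjoint_left.1 hd h
  have d2 : g a ∈ Ω₁ → g a ∉ Ω₂ := fun h => Finset.disjoint_left.1 hd h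
  tauto

theorem pres_of_disj {Ω₁ Ω₂ : Finset α} {h : Perm α} (hd : Disjoint Ω₁ Ω₂) (hh : h ∈ symO Ω₂) :
    mp Ω₁ Ω₁ h := by
  apply pres_of_maps
  intro a ha
  rw [hh a (Finset.disjoint_left.1 hd ha)]
  exact ha

theorem comm_disj {Ω₁ Ω₂ : Finset α} {g h : Perm α} (hd : Disjoint Ω₁ Ω₂) (hg : g ∈ symO Ω₁)
    (hh : h ∈ symO Ω₂) : g * h = h * g := by
  have : Perm.Disjoint g h := by
    intro a
    by_cases ha : a ∈ Ω₁
    · right; exact hh a (Finset.disjoint_left.1 hd ha)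
    · left; exact hg a ha
  exact this.commute

/-- setwise stabiliser -/
def stabS (Ω : Finset α) : Subgroup (Perm α) where
  carrier := {g | mp Ω Ω g}
  mul_mem' := fun hg hh => mp_mul hh hg
  one_mem' := mp_one Ω
  inv_mem' := fun hg => mp_inv hg

open Classical in
/-- restriction to an invariant set, extended by the identity -/
noncomputable def res (Ω : Finset α) (g : Perm α) : Perm α :=
  if h : mp Ω Ω g then Perm.ofSubtype (Perm.subtypePerm (p := fun a => a ∈ Ω) g h) else 1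

theorem res_apply_mem {Ω : Finset α} {g : Perm α} (h : mp Ω Ω g) {a : α} (ha : a ∈ Ω) :
    res Ω g a = g a := by
  unfold res
  rw [dif_pos h, Perm.ofSubtype_apply_of_mem _ ha]
  rfl

theorem res_apply_not_mem {Ω : Finset α} (g : Perm α) {a : α} (ha : a ∉ Ω) : res Ω g a = a := by
  unfold res
  split_ifs with h
  · exact Perm.ofSubtype_apply_of_not_mem _ ha
  · rfl

theorem res_mem_symO (Ω : Finset α) (g : Perm α) : res Ω g ∈ symO Ω :=
  fun _ ha => res_apply_not_mem g ha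

theorem res_mul {Ω : Finset α} {g h : Perm α} (hg : mp Ω Ω g) (hh : mp Ω Ω h) :
    res Ω (g * h) = res Ω g * res Ω h := by
  have hgh : mp Ω Ω (g * h) := mp_mul hh hg
  ext a
  by_cases ha : a ∈ Ω
  · rw [res_apply_mem hgh ha, Perm.mul_apply, Perm.mul_apply, res_apply_mem hh ha,
      res_apply_mem hg ((hh a).2 ha)]
  · rw [res_apply_not_mem _ ha, Perm.mul_apply, res_apply_not_mem _ ha, res_apply_not_mem _ ha]

theorem res_one (Ω : Finset α) : res Ω (1 : Perm α) = 1 := by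
  ext a
  by_cases ha : a ∈ Ω
  · rw [res_apply_mem (mp_one Ω) ha]
  · rw [res_apply_not_mem _ ha]; rfl

theorem res_inv {Ω : Finset α} {g : Perm α} (hg : mp Ω Ω g) : res Ω g⁻¹ = (res Ω g)⁻¹ := by
  apply eq_inv_of_mul_eq_one_left
  rw [← res_mul (mp_inv hg) hg, inv_mul_cancel, res_one]

theorem res_of_mem_symO {Ω : Finset α} {g : Perm α} (hg : g ∈ symO Ω) : res Ω g = g := by
  ext a
  by_cases ha : a ∈ Ω
  · rw [res_apply_mem (pres_symO hg) ha]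
  · rw [res_apply_not_mem _ ha, hg a ha]

theorem res_eq_one_of_disj {Ω₁ Ω₂ : Finset α} {h : Perm α} (hd : Disjoint Ω₁ Ω₂)
    (hh : h ∈ symO Ω₂) : res Ω₁ h = 1 := by
  ext a
  by_cases ha : a ∈ Ω₁
  · rw [res_apply_mem (pres_of_disj hd hh) ha, hh a (Finset.disjoint_left.1 hd ha)]; rfl
  · rw [res_apply_not_mem _ ha]; rfl

noncomputable def resHom (Ω : Finset α) : stabS Ω →* Perm α where
  toFun g := res Ω g.1
  map_one' := res_one Ω
  map_mul' g h := res_mul g.2 h.2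

theorem decomp {Ω₁ Ω₂ : Finset α} {g : Perm α} (hd : Disjoint Ω₁ Ω₂)
    (hg : g ∈ symO (Ω₁ ∪ Ω₂)) (hp1 : mp Ω₁ Ω₁ g) (hp2 : mp Ω₂ Ω₂ g) :
    g = res Ω₁ g * res Ω₂ g := by
  ext a
  rw [Perm.mul_apply]
  by_cases h1 : a ∈ Ω₁
  · have h2 : a ∉ Ω₂ := Finset.disjoint_left.1 hd h1
    rw [res_apply_not_mem _ h2, res_apply_mem hp1 h1]
  · by_cases h2 : a ∈ Ω₂
    · have h3 : g a ∈ Ω₂ := (hp2 a).2 h2
      have h4 : g a ∉ Ω₁ := fun h => Finset.disjoint_left.1 hd h h3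
      rw [res_apply_mem hp2 h2, res_apply_not_mem _ h4]
    · rw [res_apply_not_mem _ h2, res_apply_not_mem _ h1]
      exact hg a (by simp [h1, h2])

theorem conj_res₁ {Ω₁ Ω₂ : Finset α} {g t : Perm α} (hd : Disjoint Ω₁ Ω₂)
    (hg : g ∈ symO (Ω₁ ∪ Ω₂)) (hp1 : mp Ω₁ Ω₁ g) (hp2 : mp Ω₂ Ω₂ g) (ht : t ∈ symO Ω₁) :
    res Ω₁ g * t * (res Ω₁ g)⁻¹ = g * t * g⁻¹ := by
  have h1 := decomp hd hg hp1 hp2
  have c1 : t * res Ω₂ g = res Ω₂ g * t := comm_disj hd ht (res_mem_symO _ _)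
  have c2 : res Ω₁ g * res Ω₂ g = res Ω₂ g * res Ω₁ g :=
    comm_disj hd (res_mem_symO _ _) (res_mem_symO _ _)
  have e : g * t * g⁻¹ = res Ω₁ g * res Ω₂ g * t * (res Ω₁ g * res Ω₂ g)⁻¹ := by rw [← h1]
  have c4 : res Ω₂ g * (res Ω₁ g * t * (res Ω₁ g)⁻¹)
      = (res Ω₁ g * t * (res Ω₁ g)⁻¹) * res Ω₂ g :=
    (comm_disj hd (mul_mem (mul_mem (res_mem_symO _ _) ht) (inv_mem (res_mem_symO _ _)))
      (res_mem_symO _ _)).symm
  rw [e, c2, mul_inv_rev]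
  have : res Ω₂ g * res Ω₁ g * t * ((res Ω₁ g)⁻¹ * (res Ω₂ g)⁻¹)
      = res Ω₂ g * (res Ω₁ g * t * (res Ω₁ g)⁻¹) * (res Ω₂ g)⁻¹ := by group
  rw [this, c4]
  group

theorem conj_res₂ {Ω₁ Ω₂ : Finset α} {g t : Perm α} (hd : Disjoint Ω₁ Ω₂)
    (hg : g ∈ symO (Ω₁ ∪ Ω₂)) (hp1 : mp Ω₁ Ω₁ g) (hp2 : mp Ω₂ Ω₂ g) (ht : t ∈ symO Ω₂) :
    res Ω₂ g * t * (res Ω₂ g)⁻¹ = g * t * g⁻¹ := by
  have h1 := decomp hd hg hp1 hp2
  have c1 : res Ω₁ g * t = t * res Ω₁ g := comm_disj hd (res_mem_symO _ _) ht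
  have e : g * t * g⁻¹ = res Ω₁ g * res Ω₂ g * t * (res Ω₁ g * res Ω₂ g)⁻¹ := by rw [← h1]
  have c3 : res Ω₁ g * (res Ω₂ g * t * (res Ω₂ g)⁻¹) = (res Ω₂ g * t * (res Ω₂ g)⁻¹) * res Ω₁ g :=
    comm_disj hd (res_mem_symO _ _)
      (mul_mem (mul_mem (res_mem_symO _ _) ht) (inv_mem (res_mem_symO _ _)))
  rw [e, mul_inv_rev]
  have : res Ω₁ g * res Ω₂ g * t * ((res Ω₂ g)⁻¹ * (res Ω₁ g)⁻¹)
      = res Ω₁ g * (res Ω₂ g * t * (res Ω₂ g)⁻¹) * (res Ω₁ g)⁻¹ := by group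
  rw [this, c3]
  group

/-- conjugate subgroup -/
def cj (g : Perm α) (T : Subgroup (Perm α)) : Subgroup (Perm α) :=
  T.map (MulAut.conj g).toMonoidHom

theorem mem_cj {g : Perm α} {T : Subgroup (Perm α)} {x : Perm α} :
    x ∈ cj g T ↔ g⁻¹ * x * g ∈ T := by
  constructor
  · rintro ⟨t, ht, rfl⟩
    have : g⁻¹ * (g * t * g⁻¹) * g = t := by group
    change g⁻¹ * (g * t * g⁻¹) * g ∈ T
    rw [this]; exact ht
  · intro h
    refine ⟨g⁻¹ * x * g, h, ?_⟩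
    change g * (g⁻¹ * x * g) * g⁻¹ = x
    group

theorem cj_pgroup {g : Perm α} {T : Subgroup (Perm α)} (h : IsPGroup 2 T) : IsPGroup 2 (cj g T) :=
  h.map _

theorem norm_of_conj_le {T : Subgroup (Perm α)} {g : Perm α}
    (h : ∀ t ∈ T, g * t * g⁻¹ ∈ T) : g ∈ Subgroup.normalizer (T : Set (Perm α)) := by
  have hle : cj g T ≤ T := by
    rintro _ ⟨t, ht, rfl⟩
    exact h t ht
  have hcard : Nat.card (cj g T) = Nat.card T :=
    Subgroup.card_map_of_injective (MulAut.conj g).injective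
  have heq : cj g T = T := Subgroup.eq_of_le_of_card_ge hle hcard.ge
  rw [Subgroup.mem_normalizer_iff]
  intro t
  refine ⟨h t, fun ht => ?_⟩
  rw [← heq, mem_cj] at ht
  have : g⁻¹ * (g * t * g⁻¹) * g = t := by group
  rwa [this] at ht

theorem pg_elt {Q : Subgroup (Perm α)} (hQ : IsPGroup 2 Q) {g : Perm α} (hg : g ∈ Q) :
    ∃ k : ℕ, g ^ 2 ^ k = 1 := by
  obtain ⟨k, hk⟩ := hQ ⟨g, hg⟩
  exact ⟨k, by simpa using congrArg Subtype.val hk⟩

theorem zp_pgroup {y : Perm α} (h : ∃ k : ℕ, y ^ 2 ^ k = 1) :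
    IsPGroup 2 (Subgroup.zpowers y) := by
  obtain ⟨k, hk⟩ := h
  rintro ⟨g, hg⟩
  obtain ⟨i, rfl⟩ := Subgroup.mem_zpowers_iff.1 hg
  refine ⟨k, ?_⟩
  apply Subtype.ext
  simp only [Subgroup.coe_pow, Subgroup.coe_one]
  rw [← zpow_natCast, ← zpow_mul, mul_comm, zpow_mul, zpow_natCast, hk, one_zpow]

/-- the join of all 2-subgroups of `symO O` containing `y` -/
def TT (O : Finset α) (y : Perm α) : Subgroup (Perm α) :=
  sSup {Q : Subgroup (Perm α) | Q ≤ symO O ∧ IsPGroup 2 Q ∧ y ∈ Q}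

theorem TT_le (O : Finset α) (y : Perm α) : TT O y ≤ symO O := sSup_le (fun _ hQ => hQ.1)

theorem le_TT {O : Finset α} {y : Perm α} {Q : Subgroup (Perm α)} (h1 : Q ≤ symO O)
    (h2 : IsPGroup 2 Q) (h3 : y ∈ Q) : Q ≤ TT O y := le_sSup ⟨h1, h2, h3⟩

theorem self_mem_TT {O : Finset α} {y : Perm α} (h1 : y ∈ symO O) (h2 : ∃ k : ℕ, y ^ 2 ^ k = 1) :
    y ∈ TT O y :=
  le_TT (Subgroup.zpowers_le.2 h1) (zp_pgroup h2) (Subgroup.mem_zpowers y) (Subgroup.mem_zpowers y)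

/-- `TT O y` is a self-normalising 2-group -/
def Good (O : Finset α) (y : Perm α) : Prop :=
  IsPGroup 2 (TT O y) ∧ ∀ g ∈ symO O, (∀ t ∈ TT O y, g * t * g⁻¹ ∈ TT O y) → g ∈ TT O y

theorem res_mem_TT {Ω : Finset α} {Q : Subgroup (Perm α)} (hQ2 : IsPGroup 2 Q) {z g : Perm α}
    (hz : z ∈ Q) (hzp : mp Ω Ω z) (hg : g ∈ Q) (hgp : mp Ω Ω g) :
    res Ω g ∈ TT Ω (res Ω z) := by
  have hle : ((Q ⊓ stabS Ω).subgroupOf (stabS Ω)).map (resHom Ω) ≤ TT Ω (res Ω z) := by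
    apply le_TT
    · rintro _ ⟨h, -, rfl⟩
      exact res_mem_symO _ _
    · exact (IsPGroup.comap_subtype (hQ2.to_le inf_le_left)).map _
    · exact ⟨⟨z, hzp⟩, Subgroup.mem_subgroupOf.2 (Subgroup.mem_inf.2 ⟨hz, hzp⟩), rfl⟩
  exact hle ⟨⟨g, hgp⟩, Subgroup.mem_subgroupOf.2 (Subgroup.mem_inf.2 ⟨hg, hgp⟩), rfl⟩

/-- the product of two subgroups living on disjoint blocks -/
def T0 (Ω₁ Ω₂ : Finset α) (T₁ T₂ : Subgroup (Perm α)) : Subgroup (Perm α) where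
  carrier := {g | g ∈ symO (Ω₁ ∪ Ω₂) ∧ mp Ω₁ Ω₁ g ∧ mp Ω₂ Ω₂ g ∧ res Ω₁ g ∈ T₁ ∧ res Ω₂ g ∈ T₂}
  mul_mem' := by
    rintro g h ⟨hg0, hg1, hg2, hg3, hg4⟩ ⟨hh0, hh1, hh2, hh3, hh4⟩
    refine ⟨mul_mem hg0 hh0, mp_mul hh1 hg1, mp_mul hh2 hg2, ?_, ?_⟩
    · rw [res_mul hg1 hh1]; exact mul_mem hg3 hh3
    · rw [res_mul hg2 hh2]; exact mul_mem hg4 hh4
  one_mem' := ⟨one_mem _, mp_one _, mp_one _, by rw [res_one]; exact one_mem _,
    by rw [res_one]; exact one_mem _⟩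
  inv_mem' := by
    rintro g ⟨hg0, hg1, hg2, hg3, hg4⟩
    refine ⟨inv_mem hg0, mp_inv hg1, mp_inv hg2, ?_, ?_⟩
    · rw [res_inv hg1]; exact inv_mem hg3
    · rw [res_inv hg2]; exact inv_mem hg4

theorem T0_pgroup {Ω₁ Ω₂ : Finset α} {T₁ T₂ : Subgroup (Perm α)} (hd : Disjoint Ω₁ Ω₂)
    (h1 : IsPGroup 2 T₁) (h2 : IsPGroup 2 T₂) : IsPGroup 2 (T0 Ω₁ Ω₂ T₁ T₂) := by
  rintro ⟨g, hg0, hg1, hg2, hg3, hg4⟩
  obtain ⟨k₁, hk₁⟩ := pg_elt h1 hg3
  obtain ⟨k₂, hk₂⟩ := pg_elt h2 hg4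
  refine ⟨k₁ + k₂, ?_⟩
  apply Subtype.ext
  simp only [Subgroup.coe_pow, Subgroup.coe_one]
  have hc : Commute (res Ω₁ g) (res Ω₂ g) :=
    comm_disj hd (res_mem_symO _ _) (res_mem_symO _ _)
  rw [decomp hd hg0 hg1 hg2, hc.mul_pow, pow_add, pow_mul, hk₁, one_pow, mul_comm (2 ^ k₁),
    pow_mul, hk₂, one_pow, one_mul]

theorem T1_le_T0 {Ω₁ Ω₂ : Finset α} {T₁ T₂ : Subgroup (Perm α)} (hd : Disjoint Ω₁ Ω₂)
    (h1 : T₁ ≤ symO Ω₁) : T₁ ≤ T0 Ω₁ Ω₂ T₁ T₂ := by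
  intro t ht
  have hs := h1 ht
  refine ⟨symO_mono Finset.subset_union_left hs, pres_symO hs, pres_of_disj hd.symm hs, ?_, ?_⟩
  · rw [res_of_mem_symO hs]; exact ht
  · rw [res_eq_one_of_disj hd.symm hs]; exact one_mem _

theorem T2_le_T0 {Ω₁ Ω₂ : Finset α} {T₁ T₂ : Subgroup (Perm α)} (hd : Disjoint Ω₁ Ω₂)
    (h2 : T₂ ≤ symO Ω₂) : T₂ ≤ T0 Ω₁ Ω₂ T₁ T₂ := by
  intro t ht
  have hs := h2 ht
  refine ⟨symO_mono Finset.subset_union_right hs, pres_of_disj hd hs, pres_symO hs, ?_, ?_⟩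
  · rw [res_eq_one_of_disj hd hs]; exact one_mem _
  · rw [res_of_mem_symO hs]; exact ht

end Cfsg.Agent.Lib.helper21.Syl2
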