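import Cfsg.Agent.Lib.helper21.Syl2A

set_option autoImplicit false
set_option linter.unusedSectionVars false
open Equiv

namespace Cfsg.Agent.Lib.helper21.Syl2

variable {α : Type*} [DecidableEq α] [Fintype α]

set_option maxHeartbeats 1000000 in
/-- Gluing lemma: `Good` passes from two disjoint blocks to their union. -/
theorem glue (O Ω₁ Ω₂ : Finset α) (hd : Disjoint Ω₁ Ω₂) (hO : O = Ω₁ ∪ Ω₂)
    (x y₁ y₂ : Perm α) (hx : x ∈ symO O) (hx2 : ∃ k : ℕ, x ^ 2 ^ k = 1)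
    (hy₁ : y₁ ∈ symO Ω₁) (hy₂ : y₂ ∈ symO Ω₂)
    (G₁ : Good Ω₁ y₁) (G₂ : Good Ω₂ y₂)
    (hyy : y₁ * y₂ ∈ Subgroup.zpowers x)
    (P1 : ∀ Q : Subgroup (Perm α), Q ≤ symO O → IsPGroup 2 Q → x ∈ Q →
      ∀ g ∈ Q, mp Ω₁ Ω₁ g ∨ mp Ω₁ Ω₂ g)
    (P3 : ∀ Λ : Finset α, Λ ⊆ O → Λ.card = Ω₁.card →
      (mp Λ Λ x ∨ ∀ a ∈ O, (x a ∈ Λ ↔ a ∉ Λ)) → Λ = Ω₁ ∨ Λ = Ω₂) :
    Good O x := by
  subst hO
  have hT₁s : TT Ω₁ y₁ ≤ symO Ω₁ := TT_le _ _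
  have hT₂s : TT Ω₂ y₂ ≤ symO Ω₂ := TT_le _ _
  have hr1 : res Ω₁ (y₁ * y₂) = y₁ := by
    rw [res_mul (pres_symO hy₁) (pres_of_disj hd hy₂), res_of_mem_symO hy₁,
      res_eq_one_of_disj hd hy₂, mul_one]
  have hr2 : res Ω₂ (y₁ * y₂) = y₂ := by
    rw [res_mul (pres_of_disj hd.symm hy₁) (pres_symO hy₂), res_of_mem_symO hy₂,
      res_eq_one_of_disj hd.symm hy₁, one_mul]
  have hyp1 : mp Ω₁ Ω₁ (y₁ * y₂) := mp_mul (pres_of_disj hd hy₂) (pres_symO hy₁)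
  have hyp2 : mp Ω₂ Ω₂ (y₁ * y₂) := mp_mul (pres_symO hy₂) (pres_of_disj hd.symm hy₁)
  -- Step A
  have stepA : ∀ Q : Subgroup (Perm α), Q ≤ symO (Ω₁ ∪ Ω₂) → IsPGroup 2 Q → x ∈ Q →
      ∀ g ∈ Q, mp Ω₁ Ω₁ g → g ∈ T0 Ω₁ Ω₂ (TT Ω₁ y₁) (TT Ω₂ y₂) := by
    intro Q hQs hQ2 hxQ g hg hp1
    have hp2 : mp Ω₂ Ω₂ g := pres_compl hd (hQs hg) hp1
    have hyyQ : y₁ * y₂ ∈ Q := (Subgroup.zpowers_le.2 hxQ) hyy
    refine ⟨hQs hg, hp1, hp2, ?_, ?_⟩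
    · have := res_mem_TT hQ2 hyyQ hyp1 hg hp1
      rwa [hr1] at this
    · have := res_mem_TT hQ2 hyyQ hyp2 hg hp2
      rwa [hr2] at this
  -- Step B
  have stepB : ∀ Q : Subgroup (Perm α), Q ≤ symO (Ω₁ ∪ Ω₂) → IsPGroup 2 Q → x ∈ Q →
      ∀ g ∈ Q, mp Ω₁ Ω₂ g →
        (∀ t ∈ TT Ω₂ y₂, g⁻¹ * t * g ∈ TT Ω₁ y₁) ∧ (∀ t ∈ TT Ω₁ y₁, g⁻¹ * t * g ∈ TT Ω₂ y₂) := by
    intro Q hQs hQ2 hxQ g hg hm
    have hm' : mp Ω₂ Ω₁ g := mp_compl hd (hQs hg) hm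
    have hyyQ : y₁ * y₂ ∈ Q := (Subgroup.zpowers_le.2 hxQ) hyy
    have hw : g * y₁ * g⁻¹ ∈ symO Ω₂ := conj_symO hm hy₁
    have hv : g * y₂ * g⁻¹ ∈ symO Ω₁ := conj_symO hm' hy₂
    have hz : g * (y₁ * y₂) * g⁻¹ = (g * y₂ * g⁻¹) * (g * y₁ * g⁻¹) := by
      rw [comm_disj hd hy₁ hy₂]; group
    have hzQ : g * (y₁ * y₂) * g⁻¹ ∈ Q := mul_mem (mul_mem hg hyyQ) (inv_mem hg)
    have hzp : mp Ω₁ Ω₁ (g * (y₁ * y₂) * g⁻¹) :=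
      mp_mul (mp_inv hm') (mp_mul hyp2 hm')
    have hzT := stepA Q hQs hQ2 hxQ _ hzQ hzp
    have hvT : g * y₂ * g⁻¹ ∈ TT Ω₁ y₁ := by
      have := hzT.2.2.2.1
      rwa [hz, res_mul (pres_symO hv) (pres_of_disj hd hw), res_of_mem_symO hv,
        res_eq_one_of_disj hd hw, mul_one] at this
    have hwT : g * y₁ * g⁻¹ ∈ TT Ω₂ y₂ := by
      have := hzT.2.2.2.2
      rwa [hz, res_mul (pres_of_disj hd.symm hv) (pres_symO hw), res_of_mem_symO hw,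
        res_eq_one_of_disj hd.symm hv, one_mul] at this
    constructor
    · have hle : cj g⁻¹ (TT Ω₂ y₂) ≤ TT Ω₁ y₁ := by
        apply le_TT
        · rintro _ ⟨t, ht, rfl⟩
          exact conj_symO (mp_inv hm) (hT₂s ht)
        · exact cj_pgroup G₂.1
        · rw [mem_cj, inv_inv]; exact hwT
      intro t ht
      apply hle
      rw [mem_cj, inv_inv]
      have : g * (g⁻¹ * t * g) * g⁻¹ = t := by group
      rw [this]; exact ht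
    · have hle : cj g⁻¹ (TT Ω₁ y₁) ≤ TT Ω₂ y₂ := by
        apply le_TT
        · rintro _ ⟨t, ht, rfl⟩
          exact conj_symO (mp_inv hm') (hT₁s ht)
        · exact cj_pgroup G₁.1
        · rw [mem_cj, inv_inv]; exact hvT
      intro t ht
      apply hle
      rw [mem_cj, inv_inv]
      have : g * (g⁻¹ * t * g) * g⁻¹ = t := by group
      rw [this]; exact ht
  have hT0p : IsPGroup 2 (T0 Ω₁ Ω₂ (TT Ω₁ y₁) (TT Ω₂ y₂)) := T0_pgroup hd G₁.1 G₂.1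
  have hT0s : T0 Ω₁ Ω₂ (TT Ω₁ y₁) (TT Ω₂ y₂) ≤ symO (Ω₁ ∪ Ω₂) := fun g hg => hg.1
  -- conjugation of T0 by a swapping element
  have conjT0 : ∀ Q : Subgroup (Perm α), Q ≤ symO (Ω₁ ∪ Ω₂) → IsPGroup 2 Q → x ∈ Q →
      ∀ g ∈ Q, mp Ω₁ Ω₂ g → ∀ t ∈ T0 Ω₁ Ω₂ (TT Ω₁ y₁) (TT Ω₂ y₂),
        g⁻¹ * t * g ∈ T0 Ω₁ Ω₂ (TT Ω₁ y₁) (TT Ω₂ y₂) := by
    intro Q hQs hQ2 hxQ g hg hm t ht
    obtain ⟨h1, h2⟩ := stepB Q hQs hQ2 hxQ g hg hm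
    have hdec := decomp hd ht.1 ht.2.1 ht.2.2.1
    have e : g⁻¹ * t * g = (g⁻¹ * res Ω₁ t * g) * (g⁻¹ * res Ω₂ t * g) := by
      conv_lhs => rw [hdec]
      group
    rw [e]
    exact mul_mem (T2_le_T0 hd hT₂s (h2 _ ht.2.2.2.1)) (T1_le_T0 hd hT₁s (h1 _ ht.2.2.2.2))
  -- Step C
  have key : ∃ T' : Subgroup (Perm α), IsPGroup 2 T' ∧ T' ≤ symO (Ω₁ ∪ Ω₂) ∧
      T0 Ω₁ Ω₂ (TT Ω₁ y₁) (TT Ω₂ y₂) ≤ T' ∧
      ∀ Q : Subgroup (Perm α), Q ≤ symO (Ω₁ ∪ Ω₂) → IsPGroup 2 Q → x ∈ Q → Q ≤ T' := by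
    by_cases hsw : ∃ Q : Subgroup (Perm α), Q ≤ symO (Ω₁ ∪ Ω₂) ∧ IsPGroup 2 Q ∧ x ∈ Q ∧
        ∃ s ∈ Q, mp Ω₁ Ω₂ s
    · obtain ⟨Qs, hQs1, hQs2, hQs3, s, hs, hsm⟩ := hsw
      have hsm' : mp Ω₂ Ω₁ s := mp_compl hd (hQs1 hs) hsm
      have hsinv : mp Ω₁ Ω₂ s⁻¹ := mp_inv hsm'
      have hnorm : Subgroup.zpowers s ≤
          Subgroup.normalizer ((T0 Ω₁ Ω₂ (TT Ω₁ y₁) (TT Ω₂ y₂) : Subgroup (Perm α)) : Set (Perm α)) := by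
        rw [Subgroup.zpowers_le]
        apply norm_of_conj_le
        intro t ht
        have := conjT0 Qs hQs1 hQs2 hQs3 s⁻¹ (inv_mem hs) hsinv t ht
        rwa [inv_inv] at this
      refine ⟨T0 Ω₁ Ω₂ (TT Ω₁ y₁) (TT Ω₂ y₂) ⊔ Subgroup.zpowers s,
        IsPGroup.to_sup_of_normal_left' hT0p (zp_pgroup (pg_elt hQs2 hs)) hnorm,
        sup_le hT0s (Subgroup.zpowers_le.2 (hQs1 hs)), le_sup_left, ?_⟩
      intro Q hQ1 hQ2 hQ3 g hg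
      rcases P1 Q hQ1 hQ2 hQ3 g hg with hp | hm
      · exact Subgroup.mem_sup_left (stepA Q hQ1 hQ2 hQ3 g hg hp)
      · have hm' : mp Ω₂ Ω₁ g := mp_compl hd (hQ1 hg) hm
        have hginv : mp Ω₁ Ω₂ g⁻¹ := mp_inv hm'
        have hh : g * s⁻¹ ∈ symO (Ω₁ ∪ Ω₂) := mul_mem (hQ1 hg) (inv_mem (hQs1 hs))
        have hhp1 : mp Ω₁ Ω₁ (g * s⁻¹) := mp_mul hsinv hm'
        have hhp2 : mp Ω₂ Ω₂ (g * s⁻¹) := pres_compl hd hh hhp1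
        obtain ⟨sB1, sB2⟩ := stepB Qs hQs1 hQs2 hQs3 s hs hsm
        obtain ⟨gB1, gB2⟩ := stepB Q hQ1 hQ2 hQ3 g⁻¹ (inv_mem hg) hginv
        have hmem : g * s⁻¹ ∈ T0 Ω₁ Ω₂ (TT Ω₁ y₁) (TT Ω₂ y₂) := by
          refine ⟨hh, hhp1, hhp2, ?_, ?_⟩
          · apply G₁.2 _ (res_mem_symO _ _)
            intro t ht
            rw [conj_res₁ hd hh hhp1 hhp2 (hT₁s ht)]
            have h1 := gB1 _ (sB2 t ht)
            rw [inv_inv] at h1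
            have e : g * s⁻¹ * t * (g * s⁻¹)⁻¹ = g * (s⁻¹ * t * s) * g⁻¹ := by group
            rw [e]; exact h1
          · apply G₂.2 _ (res_mem_symO _ _)
            intro t ht
            rw [conj_res₂ hd hh hhp1 hhp2 (hT₂s ht)]
            have h1 := gB2 _ (sB1 t ht)
            rw [inv_inv] at h1
            have e : g * s⁻¹ * t * (g * s⁻¹)⁻¹ = g * (s⁻¹ * t * s) * g⁻¹ := by group
            rw [e]; exact h1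
        have e : g = (g * s⁻¹) * s := by group
        rw [e]
        exact mul_mem (Subgroup.mem_sup_left hmem) (Subgroup.mem_sup_right (Subgroup.mem_zpowers s))
    · refine ⟨T0 Ω₁ Ω₂ (TT Ω₁ y₁) (TT Ω₂ y₂), hT0p, hT0s, le_refl _, ?_⟩
      intro Q hQ1 hQ2 hQ3 g hg
      rcases P1 Q hQ1 hQ2 hQ3 g hg with hp | hm
      · exact stepA Q hQ1 hQ2 hQ3 g hg hp
      · exact absurd ⟨Q, hQ1, hQ2, hQ3, g, hg, hm⟩ hsw
  obtain ⟨T', hT'2, hT's, hT0T', hall⟩ := key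
  have hTle : TT (Ω₁ ∪ Ω₂) x ≤ T' := sSup_le (fun Q hQ => hall Q hQ.1 hQ.2.1 hQ.2.2)
  have hT2 : IsPGroup 2 (TT (Ω₁ ∪ Ω₂) x) := hT'2.to_le hTle
  have hxT : x ∈ TT (Ω₁ ∪ Ω₂) x := self_mem_TT hx hx2
  have hT'le : T' ≤ TT (Ω₁ ∪ Ω₂) x := le_TT hT's hT'2 (hTle hxT)
  have hT0le : T0 Ω₁ Ω₂ (TT Ω₁ y₁) (TT Ω₂ y₂) ≤ TT (Ω₁ ∪ Ω₂) x := hT0T'.trans hT'le
  refine ⟨hT2, ?_⟩
  intro g hg hnorm
  have presCase : ∀ h ∈ symO (Ω₁ ∪ Ω₂),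
      (∀ t ∈ TT (Ω₁ ∪ Ω₂) x, h * t * h⁻¹ ∈ TT (Ω₁ ∪ Ω₂) x) → mp Ω₁ Ω₁ h →
      h ∈ TT (Ω₁ ∪ Ω₂) x := by
    intro h hh hn hp1
    have hp2 := pres_compl hd hh hp1
    apply hT0le
    refine ⟨hh, hp1, hp2, ?_, ?_⟩
    · apply G₁.2 _ (res_mem_symO _ _)
      intro t ht
      rw [conj_res₁ hd hh hp1 hp2 (hT₁s ht)]
      have h1 : h * t * h⁻¹ ∈ TT (Ω₁ ∪ Ω₂) x := hn t (hT0le (T1_le_T0 hd hT₁s ht))
      have h2 : h * t * h⁻¹ ∈ symO Ω₁ := conj_symO hp1 (hT₁s ht)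
      have h3 := stepA _ (TT_le _ _) hT2 hxT _ h1 (pres_symO h2)
      have := h3.2.2.2.1
      rwa [res_of_mem_symO h2] at this
    · apply G₂.2 _ (res_mem_symO _ _)
      intro t ht
      rw [conj_res₂ hd hh hp1 hp2 (hT₂s ht)]
      have h1 : h * t * h⁻¹ ∈ TT (Ω₁ ∪ Ω₂) x := hn t (hT0le (T2_le_T0 hd hT₂s ht))
      have h2 : h * t * h⁻¹ ∈ symO Ω₂ := conj_symO hp2 (hT₂s ht)
      have h3 := stepA _ (TT_le _ _) hT2 hxT _ h1 (pres_of_disj hd h2)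
      have := h3.2.2.2.2
      rwa [res_of_mem_symO h2] at this
  have hperm : mp Ω₁ Ω₁ g ∨ mp Ω₁ Ω₂ g := by
    have hginv : mp (Ω₁ ∪ Ω₂) (Ω₁ ∪ Ω₂) g⁻¹ := mp_inv (pres_symO hg)
    have hQ1 : cj g⁻¹ (TT (Ω₁ ∪ Ω₂) x) ≤ symO (Ω₁ ∪ Ω₂) := by
      rintro _ ⟨t, ht, rfl⟩
      exact conj_symO hginv (TT_le _ _ ht)
    have hQ2 : IsPGroup 2 (cj g⁻¹ (TT (Ω₁ ∪ Ω₂) x)) := cj_pgroup hT2
    have hQ3 : x ∈ cj g⁻¹ (TT (Ω₁ ∪ Ω₂) x) := by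
      rw [mem_cj, inv_inv]; exact hnorm x hxT
    have hel : g⁻¹ * x * g ∈ cj g⁻¹ (TT (Ω₁ ∪ Ω₂) x) := by
      rw [mem_cj, inv_inv]
      have : g * (g⁻¹ * x * g) * g⁻¹ = x := by group
      rw [this]; exact hxT
    have h4 := P1 _ hQ1 hQ2 hQ3 _ hel
    have hsub : Ω₁.image g ⊆ Ω₁ ∪ Ω₂ := by
      intro b hb
      obtain ⟨a, ha, rfl⟩ := Finset.mem_image.1 hb
      exact (pres_symO hg a).2 (Finset.mem_union_left _ ha)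
    have hcard : (Ω₁.image g).card = Ω₁.card := Finset.card_image_of_injective _ g.injective
    have hmemΛ : ∀ b, b ∈ Ω₁.image g ↔ g⁻¹ b ∈ Ω₁ := by
      intro b
      rw [Finset.mem_image]
      constructor
      · rintro ⟨a, ha, rfl⟩
        rwa [inv_app]
      · intro h
        exact ⟨g⁻¹ b, h, app_inv g b⟩
    have hcond : mp (Ω₁.image g) (Ω₁.image g) x ∨
        ∀ a ∈ Ω₁ ∪ Ω₂, (x a ∈ Ω₁.image g ↔ a ∉ Ω₁.image g) := by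
      rcases h4 with h4 | h4
      · left
        intro b
        rw [hmemΛ, hmemΛ]
        have := h4 (g⁻¹ b)
        simp only [Perm.mul_apply, app_inv] at this
        exact this
      · right
        intro b hb
        rw [hmemΛ, hmemΛ]
        have h5 := mp_compl hd (hQ1 hel) h4 (g⁻¹ b)
        simp only [Perm.mul_apply, app_inv] at h5
        have hb' : g⁻¹ b ∈ Ω₁ ∪ Ω₂ := (hginv b).2 hb
        have d1 : g⁻¹ b ∈ Ω₁ → g⁻¹ b ∉ Ω₂ := fun h => Finset.disjoint_left.1 hd h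
        rw [Finset.mem_union] at hb'
        tauto
    rcases P3 _ hsub hcard hcond with h5 | h5
    · left
      apply pres_of_maps
      intro a ha
      rw [← h5]
      exact Finset.mem_image_of_mem _ ha
    · right
      intro a
      rw [← h5, Finset.mem_image]
      constructor
      · rintro ⟨b, hb, hba⟩
        rwa [← g.injective hba]
      · intro ha
        exact ⟨a, ha, rfl⟩
  rcases hperm with hp | hm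
  · exact presCase g hg hnorm hp
  · have hm' : mp Ω₂ Ω₁ g := mp_compl hd hg hm
    have hg2 : g * g ∈ TT (Ω₁ ∪ Ω₂) x := by
      apply presCase (g * g) (mul_mem hg hg) _ (mp_mul hm hm')
      intro t ht
      have := hnorm _ (hnorm t ht)
      have e : g * g * t * (g * g)⁻¹ = g * (g * t * g⁻¹) * g⁻¹ := by group
      rw [e]; exact this
    obtain ⟨k, hk⟩ := pg_elt hT2 hg2
    have hz : IsPGroup 2 (Subgroup.zpowers g) := by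
      apply zp_pgroup
      refine ⟨k + 1, ?_⟩
      rw [pow_succ, mul_comm, pow_mul, pow_two]; exact hk
    have hsup : IsPGroup 2 ((TT (Ω₁ ∪ Ω₂) x ⊔ Subgroup.zpowers g : Subgroup (Perm α))) :=
      IsPGroup.to_sup_of_normal_left' hT2 hz (Subgroup.zpowers_le.2 (norm_of_conj_le hnorm))
    have hle : TT (Ω₁ ∪ Ω₂) x ⊔ Subgroup.zpowers g ≤ TT (Ω₁ ∪ Ω₂) x :=
      le_TT (sup_le (TT_le _ _) (Subgroup.zpowers_le.2 hg)) hsup (Subgroup.mem_sup_left hxT)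
    exact hle (Subgroup.mem_sup_right (Subgroup.mem_zpowers g))

end Cfsg.Agent.Lib.helper21.Syl2
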