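import Cfsg.Agent.Lib.helper21.Syl2B

set_option autoImplicit false
set_option linter.unusedSectionVars false
open Equiv

namespace Cfsg.Agent.Lib.helper21.Syl2

variable {α : Type*} [DecidableEq α] [Fintype α]

/-- Block lemma: a transitive 2-group has an index-two subgroup over a point stabiliser,
whose orbit of the point is half of the set. -/
theorem block (O : Finset α) (Q : Subgroup (Perm α)) (hQs : Q ≤ symO O) (hQ2 : IsPGroup 2 Q)
    (ω : α) (hω : ω ∈ O) (htr : ∀ b ∈ O, ∃ q ∈ Q, q ω = b) (hne : ∃ b ∈ O, b ≠ ω) :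
    ∃ (M : Subgroup (Perm α)) (B : Finset α), M ≤ Q ∧ B ⊆ O ∧ ω ∈ B ∧
      (∀ b, b ∈ B ↔ ∃ m ∈ M, m ω = b) ∧
      (∀ g ∈ Q, g ω = ω → g ∈ M) ∧ (∃ g ∈ Q, g ∉ M) ∧
      (∀ g ∈ Q, ∀ h ∈ Q, (g * h ∈ M ↔ (g ∈ M ↔ h ∈ M))) ∧
      (∀ g ∈ M, mp B B g) ∧ (∀ g ∈ Q, g ∉ M → ∀ a ∈ O, (g a ∈ B ↔ a ∉ B)) ∧
      2 * B.card = O.card := by
  classical
  haveI : Fact (Nat.Prime 2) := ⟨Nat.prime_two⟩
  have main : ∃ M : Subgroup (Perm α), M ≤ Q ∧ (∀ g ∈ Q, g ω = ω → g ∈ M) ∧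
      (∃ g ∈ Q, g ∉ M) ∧ (∀ g ∈ Q, ∀ h ∈ Q, (g * h ∈ M ↔ (g ∈ M ↔ h ∈ M))) := by
    let K : Subgroup ↥Q := (MulAction.stabilizer (Perm α) ω).subgroupOf Q
    have hKmem : ∀ q : ↥Q, q ∈ K ↔ (q : Perm α) ω = ω := by
      intro q
      rw [Subgroup.mem_subgroupOf, MulAction.mem_stabilizer_iff]; rfl
    obtain ⟨m, hm⟩ := (IsPGroup.iff_card).1 hQ2
    obtain ⟨k, hk⟩ := (IsPGroup.iff_card).1 (hQ2.to_subgroup K)
    have hKne : K ≠ ⊤ := by
      intro h
      obtain ⟨b, hb, hbω⟩ := hne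
      obtain ⟨q, hq, hqb⟩ := htr b hb
      have h1 : (⟨q, hq⟩ : ↥Q) ∈ K := by rw [h]; trivial
      rw [hKmem] at h1
      exact hbω (hqb.symm.trans h1)
    have hkm : k < m := by
      by_contra hcon
      have hcon' : m ≤ k := Nat.le_of_not_lt hcon
      have h1 : Nat.card K = Nat.card ↥Q := by
        apply le_antisymm (Subgroup.card_le_card_group K)
        rw [hm, hk]; exact Nat.pow_le_pow_right (by norm_num) hcon'
      exact hKne (Subgroup.eq_top_of_card_eq K h1)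
    have hdvd : 2 ^ (m - 1) ∣ Nat.card ↥Q := by rw [hm]; exact pow_dvd_pow 2 (Nat.sub_le _ _)
    obtain ⟨M₀, hM₀c, hKM₀⟩ := Sylow.exists_subgroup_card_pow_prime_le 2 hdvd K hk (by omega)
    have hidx : M₀.index = 2 := by
      have h1 := M₀.index_mul_card
      rw [hM₀c, hm] at h1
      have h2 : (2:ℕ) ^ m = 2 * 2 ^ (m - 1) := by
        rw [← pow_succ']; congr 1; omega
      rw [h2] at h1
      exact Nat.eq_of_mul_eq_mul_right (by positivity) h1
    have hmemM : ∀ g (hg : g ∈ Q), g ∈ M₀.map Q.subtype ↔ (⟨g, hg⟩ : ↥Q) ∈ M₀ := by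
      intro g hg
      constructor
      · rintro ⟨y, hy, hyg⟩
        have : y = ⟨g, hg⟩ := Subtype.ext hyg
        rwa [← this]
      · intro h
        exact ⟨⟨g, hg⟩, h, rfl⟩
    refine ⟨M₀.map Q.subtype, ?_, ?_, ?_, ?_⟩
    · rintro _ ⟨y, -, rfl⟩
      exact y.2
    · intro g hg hgω
      rw [hmemM g hg]
      exact hKM₀ ((hKmem _).2 hgω)
    · by_contra hcon
      have : M₀ = ⊤ := by
        rw [eq_top_iff]
        intro q _
        by_contra hq
        exact hcon ⟨q.1, q.2, fun h => hq ((hmemM q.1 q.2).1 h)⟩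
      rw [this, Subgroup.index_top] at hidx
      omega
    · intro g hg h hh
      rw [hmemM g hg, hmemM h hh, hmemM (g * h) (mul_mem hg hh)]
      exact Subgroup.mul_mem_iff_of_index_two hidx (a := ⟨g, hg⟩) (b := ⟨h, hh⟩)
  obtain ⟨M, hMQ, hstab, ⟨g₀, hg₀Q, hg₀M⟩, hidx⟩ := main
  have hBmem : ∀ b, b ∈ O.filter (fun b => ∃ m ∈ M, m ω = b) ↔ ∃ m ∈ M, m ω = b := by
    intro b
    rw [Finset.mem_filter]
    constructor
    · exact fun h => h.2
    · rintro ⟨m, hm, rfl⟩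
      exact ⟨(pres_symO (hQs (hMQ hm)) ω).2 hω, m, hm, rfl⟩
  have hpres : ∀ g ∈ M, mp (O.filter (fun b => ∃ m ∈ M, m ω = b))
      (O.filter (fun b => ∃ m ∈ M, m ω = b)) g := by
    intro g hg
    apply pres_of_maps
    intro a ha
    rw [hBmem] at ha ⊢
    obtain ⟨m, hm, rfl⟩ := ha
    exact ⟨g * m, mul_mem hg hm, rfl⟩
  have hswap : ∀ g ∈ Q, g ∉ M → ∀ a ∈ O,
      (g a ∈ O.filter (fun b => ∃ m ∈ M, m ω = b) ↔ a ∉ O.filter (fun b => ∃ m ∈ M, m ω = b)) := by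
    intro g hg hgM a ha
    rw [hBmem, hBmem]
    constructor
    · rintro ⟨m, hm, hma⟩ ⟨m', hm', rfl⟩
      have h1 : (m⁻¹ * g * m') ω = ω := by
        simp only [Perm.mul_apply]
        rw [← hma, inv_app]
      have h2 : m⁻¹ * g * m' ∈ M :=
        hstab _ (mul_mem (mul_mem (inv_mem (hMQ hm)) hg) (hMQ hm')) h1
      have h3 : g = m * (m⁻¹ * g * m') * m'⁻¹ := by group
      rw [h3] at hgM
      exact hgM (mul_mem (mul_mem hm h2) (inv_mem hm'))
    · intro hna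
      obtain ⟨q, hq, rfl⟩ := htr a ha
      have hqM : q ∉ M := fun h => hna ⟨q, h, rfl⟩
      have h1 : g * q ∈ M := (hidx g hg q hq).2 ⟨fun h => absurd h hgM, fun h => absurd h hqM⟩
      exact ⟨g * q, h1, rfl⟩
  have hBO : O.filter (fun b => ∃ m ∈ M, m ω = b) ⊆ O := Finset.filter_subset _ _
  refine ⟨M, O.filter (fun b => ∃ m ∈ M, m ω = b), hMQ, hBO,
    (hBmem ω).2 ⟨1, one_mem _, rfl⟩, hBmem, hstab, ⟨g₀, hg₀Q, hg₀M⟩, hidx, hpres, hswap, ?_⟩
  have himg : O \ O.filter (fun b => ∃ m ∈ M, m ω = b)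
      = (O.filter (fun b => ∃ m ∈ M, m ω = b)).image g₀ := by
    ext c
    rw [Finset.mem_sdiff, Finset.mem_image]
    constructor
    · rintro ⟨hc, hcB⟩
      have hO : g₀⁻¹ c ∈ O := (mp_inv (pres_symO (hQs hg₀Q)) c).2 hc
      have h1 := hswap g₀ hg₀Q hg₀M _ hO
      rw [app_inv] at h1
      refine ⟨g₀⁻¹ c, ?_, app_inv g₀ c⟩
      by_contra h2
      exact hcB (h1.2 h2)
    · rintro ⟨a, ha, rfl⟩
      have haO := hBO ha
      exact ⟨(pres_symO (hQs hg₀Q) a).2 haO, fun h => (hswap g₀ hg₀Q hg₀M a haO).1 h ha⟩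
  have h1 := Finset.card_sdiff_add_card_eq_card hBO
  rw [himg, Finset.card_image_of_injective _ g₀.injective] at h1
  omega

theorem parity {G : Type*} [Group G] (c : G) (k : ℤ) :
    c ^ k ∈ Subgroup.zpowers (c * c) ∨ c⁻¹ * c ^ k ∈ Subgroup.zpowers (c * c) := by
  rcases Int.even_or_odd' k with ⟨j, rfl | rfl⟩
  · left
    refine Subgroup.mem_zpowers_iff.2 ⟨j, ?_⟩
    rw [← pow_two, ← zpow_natCast, ← zpow_mul]; rfl
  · right
    refine Subgroup.mem_zpowers_iff.2 ⟨j, ?_⟩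
    rw [← pow_two, ← zpow_natCast, ← zpow_mul, zpow_add_one]
    have : c⁻¹ * (c ^ (2 * j) * c) = c ^ (2 * j) := by
      have hc : Commute (c ^ (2 * j)) c := (Commute.refl c).zpow_left _
      rw [hc.eq]; group
    rw [this]; rfl

theorem char_M {G : Type*} [Group G] (c : G) (M : Subgroup G) (hc : c ∉ M) (hcc : c * c ∈ M)
    (y : G) (hy : y ∈ Subgroup.zpowers c) : y ∈ M ↔ y ∈ Subgroup.zpowers (c * c) := by
  constructor
  · intro hyM
    obtain ⟨k, rfl⟩ := Subgroup.mem_zpowers_iff.1 hy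
    rcases parity c k with h | h
    · exact h
    · exfalso
      have h1 : c⁻¹ * c ^ k ∈ M := (Subgroup.zpowers_le.2 hcc) h
      have h2 : c = c ^ k * (c⁻¹ * c ^ k)⁻¹ := by group
      rw [h2] at hc
      exact hc (mul_mem hyM (inv_mem h1))
  · intro h
    exact (Subgroup.zpowers_le.2 hcc) h

theorem swap_to_mp {O B : Finset α} {g : Perm α} (hg : g ∈ symO O)
    (h : ∀ a ∈ O, (g a ∈ B ↔ a ∉ B)) (hBO : B ⊆ O) : mp B (O \ B) g := by
  intro a
  rw [Finset.mem_sdiff]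
  have hp := pres_symO hg a
  constructor
  · rintro ⟨h1, h2⟩
    have ha := hp.1 h1
    by_contra h3
    exact h2 ((h a ha).2 h3)
  · intro ha
    have haO := hBO ha
    exact ⟨hp.2 haO, fun h1 => (h a haO).1 h1 ha⟩

theorem res_zpow {Ω : Finset α} {g : Perm α} (hg : mp Ω Ω g) (j : ℤ) :
    res Ω (g ^ j) = (res Ω g) ^ j := by
  have := map_zpow (resHom Ω) (⟨g, hg⟩ : stabS Ω) j
  exact this

theorem res_pow {Ω : Finset α} {g : Perm α} (hg : mp Ω Ω g) (j : ℕ) :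
    res Ω (g ^ j) = (res Ω g) ^ j := by
  have := map_pow (resHom Ω) (⟨g, hg⟩ : stabS Ω) j
  exact this

theorem zpow_pres {Ω : Finset α} {g : Perm α} (hg : mp Ω Ω g) (j : ℤ) : mp Ω Ω (g ^ j) :=
  (stabS Ω).zpow_mem hg j

theorem symO_sq {O : Finset α} (hO : O.card ≤ 2) {g : Perm α} (hg : g ∈ symO O) : g * g = 1 := by
  ext a
  rw [Perm.mul_apply, Perm.one_apply]
  by_cases ha : a ∈ O
  · by_cases h1 : g a = a
    · rw [h1, h1]
    · by_contra h2
      have hga : g a ∈ O := (pres_symO hg a).2 ha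
      have hgga : g (g a) ∈ O := (pres_symO hg (g a)).2 hga
      have h3 : g (g a) ≠ g a := fun h => h1 (g.injective h)
      have : 2 < O.card :=
        Finset.two_lt_card.2 ⟨a, ha, g a, hga, g (g a), hgga, fun h => h1 h.symm,
          fun h => h2 h.symm, fun h => h3 h.symm⟩
      omega
  · rw [hg a ha, hg a ha]

theorem good_of_small {O : Finset α} (hO : O.card ≤ 2) {y : Perm α} (hy : y ∈ symO O) :
    Good O y := by
  have hp : IsPGroup 2 (symO O) := by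
    rintro ⟨g, hg⟩
    refine ⟨1, ?_⟩
    apply Subtype.ext
    simp only [Subgroup.coe_pow, Subgroup.coe_one, pow_one]
    rw [pow_two]; exact symO_sq hO hg
  exact ⟨hp.to_le (TT_le _ _), fun g hg _ => le_TT le_rfl hp hy hg⟩

end Cfsg.Agent.Lib.helper21.Syl2
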