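import Cfsg.Agent.Lib.helper21.Syl2C

set_option autoImplicit false
set_option linter.unusedSectionVars false
open Equiv

namespace Cfsg.Agent.Lib.helper21.Syl2

variable {α : Type*} [DecidableEq α] [Fintype α]

set_option maxHeartbeats 1000000 in
/-- A full cycle of 2-power length on `O` is `Good`. -/
theorem good_cyc : ∀ (n : ℕ) (O : Finset α) (c : Perm α) (ω : α), O.card = 2 ^ n → c ∈ symO O →
    ω ∈ O → (∀ b ∈ O, ∃ i : ℤ, (c ^ i) ω = b) → (∃ k : ℕ, c ^ 2 ^ k = 1) → Good O c := by
  intro n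
  induction n with
  | zero =>
    intro O c ω hcard hc hω htr hc2
    exact good_of_small (by rw [hcard]; norm_num) hc
  | succ n ih =>
    intro O c ω hcard hc hω htr hc2
    have hQ0s : Subgroup.zpowers c ≤ symO O := Subgroup.zpowers_le.2 hc
    have hQ02 := zp_pgroup hc2
    have htr0 : ∀ b ∈ O, ∃ q ∈ Subgroup.zpowers c, q ω = b := by
      intro b hb
      obtain ⟨i, hi⟩ := htr b hb
      exact ⟨c ^ i, Subgroup.zpow_mem_zpowers c i, hi⟩
    have hne : ∃ b ∈ O, b ≠ ω := by
      apply Finset.exists_mem_ne _ ω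
      rw [hcard]
      exact Nat.one_lt_two_pow (Nat.succ_ne_zero n)
    obtain ⟨M, B, hMQ, hBO, hωB, hBmem, hstab, ⟨g₀, hg₀Q, hg₀M⟩, hidx, hpresM, hswapM, hcardB⟩ :=
      block O (Subgroup.zpowers c) hQ0s hQ02 ω hω htr0 hne
    have hcM : c ∉ M := fun h => hg₀M ((Subgroup.zpowers_le.2 h) hg₀Q)
    have hccM : c * c ∈ M :=
      (hidx c (Subgroup.mem_zpowers c) c (Subgroup.mem_zpowers c)).2 Iff.rfl
    have hchar := char_M c M hcM hccM
    have hcswap : mp B (O \ B) c := swap_to_mp hc (hswapM c (Subgroup.mem_zpowers c) hcM) hBO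
    have hccp : mp B B (c * c) := hpresM _ hccM
    have hd : Disjoint B (O \ B) := Finset.disjoint_sdiff
    have hOeq : O = B ∪ (O \ B) := (Finset.union_sdiff_of_subset hBO).symm
    have hcc' : c * c ∈ symO (B ∪ (O \ B)) := by rw [← hOeq]; exact mul_mem hc hc
    have hccp2 : mp (O \ B) (O \ B) (c * c) := pres_compl hd hcc' hccp
    have hcardB' : B.card = 2 ^ n := by
      rw [hcard, pow_succ] at hcardB; omega
    have hcardB2 : (O \ B).card = 2 ^ n := by
      have := Finset.card_sdiff_add_card_eq_card hBO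
      rw [hcard, pow_succ] at this; omega
    have hΩ₁ : ∀ b ∈ B, ∃ j : ℤ, ((c * c) ^ j) ω = b := by
      intro b hb
      obtain ⟨m, hm, rfl⟩ := (hBmem b).1 hb
      obtain ⟨j, hj⟩ := Subgroup.mem_zpowers_iff.1 ((hchar m (hMQ hm)).1 hm)
      exact ⟨j, by rw [hj]⟩
    have hcω : c ω ∈ O \ B := (hcswap ω).2 hωB
    have hΩ₂ : ∀ b ∈ O \ B, ∃ j : ℤ, ((c * c) ^ j) (c ω) = b := by
      intro b hb
      obtain ⟨hbO, hbB⟩ := Finset.mem_sdiff.1 hb
      obtain ⟨i, hi⟩ := htr b hbO
      have hiM : c ^ i ∉ M := fun h => hbB ((hBmem b).2 ⟨c ^ i, h, hi⟩)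
      rcases parity c i with h | h
      · exact absurd ((hchar _ (Subgroup.zpow_mem_zpowers c i)).2 h) hiM
      · obtain ⟨j, hj⟩ := Subgroup.mem_zpowers_iff.1 h
        refine ⟨j, ?_⟩
        have hcomm : Commute ((c * c) ^ j) c :=
          ((Commute.refl c).mul_left (Commute.refl c)).zpow_left j
        have e : c ^ i = (c * c) ^ j * c := by
          rw [hcomm.eq, hj]; group
        rw [← hi, e, Perm.mul_apply]
    have hy₁s := res_mem_symO B (c * c)
    have hy₂s := res_mem_symO (O \ B) (c * c)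
    have hy2 : ∀ Ω : Finset α, mp Ω Ω (c * c) → ∃ k : ℕ, (res Ω (c * c)) ^ 2 ^ k = 1 := by
      intro Ω hΩ
      obtain ⟨k, hk⟩ := hc2
      refine ⟨k, ?_⟩
      rw [← res_pow hΩ, (Commute.refl c).mul_pow, hk, one_mul, res_one]
    have G₁ : Good B (res B (c * c)) := by
      apply ih B _ ω hcardB' hy₁s hωB _ (hy2 B hccp)
      intro b hb
      obtain ⟨j, hj⟩ := hΩ₁ b hb
      refine ⟨j, ?_⟩
      rw [← res_zpow hccp, res_apply_mem (zpow_pres hccp j) hωB, hj]
    have G₂ : Good (O \ B) (res (O \ B) (c * c)) := by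
      apply ih (O \ B) _ (c ω) hcardB2 hy₂s hcω _ (hy2 _ hccp2)
      intro b hb
      obtain ⟨j, hj⟩ := hΩ₂ b hb
      refine ⟨j, ?_⟩
      rw [← res_zpow hccp2, res_apply_mem (zpow_pres hccp2 j) hcω, hj]
    have hyy : res B (c * c) * res (O \ B) (c * c) ∈ Subgroup.zpowers c := by
      rw [← decomp hd hcc' hccp hccp2]
      exact mul_mem (Subgroup.mem_zpowers c) (Subgroup.mem_zpowers c)
    apply glue O B (O \ B) hd hOeq c _ _ hc hc2 hy₁s hy₂s G₁ G₂ hyy
    · intro Q hQs hQ2 hcQ g hg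
      have htrQ : ∀ b ∈ O, ∃ q ∈ Q, q ω = b := by
        intro b hb
        obtain ⟨q, hq, hqb⟩ := htr0 b hb
        exact ⟨q, (Subgroup.zpowers_le.2 hcQ) hq, hqb⟩
      obtain ⟨M', B', hMQ', hBO', hωB', hBmem', hstab', ⟨g₁, hg₁Q, hg₁M⟩, hidx', hpresM',
        hswapM', -⟩ := block O Q hQs hQ2 ω hω htrQ hne
      have hcM' : c ∉ M' := by
        intro h
        have hg₁O : g₁ ω ∈ O := (pres_symO (hQs hg₁Q) ω).2 hω
        obtain ⟨i, hi⟩ := htr _ hg₁O
        have hciM : c ^ i ∈ M' := (Subgroup.zpowers_le.2 h) (Subgroup.zpow_mem_zpowers c i)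
        have h1 : ((c ^ i)⁻¹ * g₁) ω = ω := by
          rw [Perm.mul_apply, ← hi, inv_app]
        have h2 := hstab' _ (mul_mem (inv_mem (hMQ' hciM)) hg₁Q) h1
        have h3 : g₁ = c ^ i * ((c ^ i)⁻¹ * g₁) := by group
        rw [h3] at hg₁M
        exact hg₁M (mul_mem hciM h2)
      have hccM' : c * c ∈ M' := (hidx' c hcQ c hcQ).2 Iff.rfl
      have hchar' := char_M c M' hcM' hccM'
      have hBB : B' = B := by
        ext b
        rw [hBmem', hBmem]
        constructor
        · rintro ⟨m, hm, rfl⟩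
          have hmO : m ω ∈ O := (pres_symO (hQs (hMQ' hm)) ω).2 hω
          obtain ⟨i, hi⟩ := htr _ hmO
          have h1 : ((c ^ i)⁻¹ * m) ω = ω := by
            rw [Perm.mul_apply, ← hi, inv_app]
          have hciQ : c ^ i ∈ Q := (Subgroup.zpowers_le.2 hcQ) (Subgroup.zpow_mem_zpowers c i)
          have h2 := hstab' _ (mul_mem (inv_mem hciQ) (hMQ' hm)) h1
          have h3 : c ^ i = m * ((c ^ i)⁻¹ * m)⁻¹ := by group
          have h4 : c ^ i ∈ M' := by rw [h3]; exact mul_mem hm (inv_mem h2)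
          have h5 := (hchar' _ (Subgroup.zpow_mem_zpowers c i)).1 h4
          exact ⟨c ^ i, (hchar _ (Subgroup.zpow_mem_zpowers c i)).2 h5, hi⟩
        · rintro ⟨m, hm, rfl⟩
          have h5 := (hchar m (hMQ hm)).1 hm
          exact ⟨m, (hchar' m (hMQ hm)).2 h5, rfl⟩
      rw [hBB] at hpresM' hswapM'
      by_cases hgM : g ∈ M'
      · left; exact hpresM' g hgM
      · right; exact swap_to_mp (hQs hg) (hswapM' g hg hgM) hBO
    · intro Λ hΛO hΛc hcond
      rcases hcond with hp | hs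
      · exfalso
        have hΛne : Λ.Nonempty := by
          rw [← Finset.card_pos, hΛc, hcardB']; positivity
        obtain ⟨a₀, ha₀⟩ := hΛne
        obtain ⟨j, hj⟩ := htr a₀ (hΛO ha₀)
        have hsub : O ⊆ Λ := by
          intro b hb
          obtain ⟨i, hi⟩ := htr b hb
          have e : b = (c ^ (i - j)) a₀ := by
            rw [← hj, ← Perm.mul_apply, ← zpow_add, sub_add_cancel, hi]
          rw [e]
          exact (zpow_pres hp (i - j) a₀).2 ha₀
        have h1 := Finset.card_le_card hsub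
        rw [hcard, hΛc, hcardB', pow_succ] at h1
        have h2 : 0 < 2 ^ n := by positivity
        omega
      · have hccΛ : mp Λ Λ (c * c) := by
          apply pres_of_maps
          intro a ha
          have haO := hΛO ha
          have h1 : c a ∉ Λ := fun h => (hs a haO).1 h ha
          have h2 : c a ∈ O := (pres_symO hc a).2 haO
          rw [Perm.mul_apply]
          exact (hs (c a) h2).2 h1
        by_cases hωΛ : ω ∈ Λ
        · left
          symm
          apply Finset.eq_of_subset_of_card_le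
          · intro b hb
            obtain ⟨j, hj⟩ := hΩ₁ b hb
            rw [← hj]
            exact (zpow_pres hccΛ j ω).2 hωΛ
          · rw [hΛc]
        · right
          have hcωΛ : c ω ∈ Λ := (hs ω hω).2 hωΛ
          symm
          apply Finset.eq_of_subset_of_card_le
          · intro b hb
            obtain ⟨j, hj⟩ := hΩ₂ b hb
            rw [← hj]
            exact (zpow_pres hccΛ j (c ω)).2 hcωΛ
          · rw [hΛc, hcardB', hcardB2]

end Cfsg.Agent.Lib.helper21.Syl2
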