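import Cfsg.Agent.Lib.helper21.Syl2D

set_option autoImplicit false
set_option linter.unusedSectionVars false
open Equiv

namespace Cfsg.Agent.Lib.helper21.Syl2

variable {α : Type*} [DecidableEq α] [Fintype α]

theorem geo_sum : ∀ a : ℕ, 1 ≤ a → ∑ k ∈ Finset.Ico 1 a, 2 ^ k + 2 = 2 ^ a := by
  intro a ha
  induction a, ha using Nat.le_induction with
  | base => simp
  | succ a ha ih =>
    rw [Finset.sum_Ico_succ_top ha, pow_succ]
    omega

theorem sum_bound (s : Multiset ℕ) (a : ℕ) (ha : 1 ≤ a) (hnd : s.Nodup)
    (h : ∀ n ∈ s, ∃ k : ℕ, 1 ≤ k ∧ k < a ∧ n = 2 ^ k) : s.sum + 2 ≤ 2 ^ a := by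
  have e : s.sum = ∑ n ∈ s.toFinset, n := by
    rw [Finset.sum_eq_multiset_sum, Multiset.toFinset_val, Multiset.dedup_eq_self.2 hnd,
      Multiset.map_id']
  have hsub : s.toFinset ⊆ (Finset.Ico 1 a).image (fun k => 2 ^ k) := by
    intro n hn
    obtain ⟨k, hk1, hk2, rfl⟩ := h n (Multiset.mem_toFinset.1 hn)
    exact Finset.mem_image.2 ⟨k, Finset.mem_Ico.2 ⟨hk1, hk2⟩, rfl⟩
  have h1 : ∑ n ∈ s.toFinset, n ≤ ∑ n ∈ (Finset.Ico 1 a).image (fun k => 2 ^ k), n :=
    Finset.sum_le_sum_of_subset hsub
  have h2 : ∑ n ∈ (Finset.Ico 1 a).image (fun k => 2 ^ k), n = ∑ k ∈ Finset.Ico 1 a, 2 ^ k := by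
    rw [Finset.sum_image]
    intro x _ y _ hxy
    exact Nat.pow_right_injective le_rfl hxy
  have h3 := geo_sum a ha
  omega

theorem two_elt {x : Perm α} (h : ∀ n ∈ x.cycleType, ∃ k : ℕ, n = 2 ^ k) :
    ∃ k : ℕ, x ^ 2 ^ k = 1 := by
  refine ⟨Fintype.card α, ?_⟩
  apply orderOf_dvd_iff_pow_eq_one.1
  rw [← Perm.lcm_cycleType]
  apply Multiset.lcm_dvd.2
  intro n hn
  obtain ⟨k, rfl⟩ := h n hn
  apply pow_dvd_pow
  have h1 : 2 ^ k ≤ Fintype.card α := by
    have h2 : 2 ^ k ≤ x.cycleType.sum := Multiset.le_sum_of_mem hn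
    rw [Perm.sum_cycleType] at h2
    exact h2.trans (Finset.card_le_univ _)
  exact (Nat.lt_two_pow_self).le.trans h1

/-- The hypothesis on `x` relative to `O`. -/
def Hyp (O : Finset α) (x : Perm α) : Prop :=
  x ∈ symO O ∧ x.cycleType.Nodup ∧ (∀ n ∈ x.cycleType, ∃ k : ℕ, n = 2 ^ k) ∧
    O.card ≤ x.support.card + 2

set_option maxHeartbeats 1600000 in
theorem good_main : ∀ (N : ℕ) (O : Finset α) (x : Perm α), O.card ≤ N → Hyp O x → Good O x := by
  intro N
  induction N with
  | zero =>
    intro O x hN hH
    exact good_of_small (by omega) hH.1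
  | succ N ih =>
    intro O x hN hH
    obtain ⟨hx, hnd, hpow, hcard⟩ := hH
    by_cases hx1 : x = 1
    · subst hx1
      apply good_of_small _ hx
      simpa using hcard
    have hne : x.cycleFactorsFinset.Nonempty := by
      rw [Finset.nonempty_iff_ne_empty, Ne, Perm.cycleFactorsFinset_eq_empty_iff]; exact hx1
    obtain ⟨f, hf, hfmax⟩ :=
      Finset.exists_max_image x.cycleFactorsFinset (fun f => f.support.card) hne
    have hfc : f.IsCycle := (Perm.mem_cycleFactorsFinset_iff.1 hf).1
    have hfx : ∀ a ∈ f.support, f a = x a := (Perm.mem_cycleFactorsFinset_iff.1 hf).2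
    have hdisj : Perm.Disjoint (x * f⁻¹) f := Perm.disjoint_mul_inv_of_mem_cycleFactorsFinset hf
    have hct : (x * f⁻¹).cycleType = x.cycleType - f.cycleType :=
      Perm.cycleType_mul_inv_mem_cycleFactorsFinset_eq_sub hf
    have hfct : f.cycleType = {f.support.card} := hfc.cycleType
    have hmemct : f.support.card ∈ x.cycleType := by
      rw [Perm.cycleType_def]
      exact Multiset.mem_map.2 ⟨f, hf, rfl⟩
    obtain ⟨a, ha⟩ := hpow _ hmemct
    have hle : (x * f⁻¹).cycleType ≤ x.cycleType := by
      rw [hct]; exact Multiset.sub_le_self _ _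
    have ha1 : 1 ≤ a := by
      have h2 : 2 ≤ f.support.card := Perm.two_le_of_mem_cycleType hmemct
      rw [ha] at h2
      by_contra h
      have h0 : a = 0 := by omega
      rw [h0] at h2; norm_num at h2
    have hsmall : ∀ n ∈ (x * f⁻¹).cycleType, ∃ k : ℕ, 1 ≤ k ∧ k < a ∧ n = 2 ^ k := by
      intro n hn
      have hnx : n ∈ x.cycleType := Multiset.mem_of_le hle hn
      obtain ⟨k, rfl⟩ := hpow n hnx
      have h2 : 2 ≤ 2 ^ k := Perm.two_le_of_mem_cycleType hnx
      have hk1 : 1 ≤ k := by
        by_contra h
        have h0 : k = 0 := by omega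
        rw [h0] at h2; norm_num at h2
      have hnx' := hnx
      rw [Perm.cycleType_def] at hnx'
      obtain ⟨f', hf', hf'c⟩ := Multiset.mem_map.1 hnx'
      have h3 : 2 ^ k ≤ 2 ^ a := by
        have := hfmax f' hf'
        simp only [Function.comp] at hf'c
        rw [← hf'c, ← ha]; exact this
      have hka : k ≤ a := (Nat.pow_le_pow_iff_right (by norm_num)).1 h3
      have hne' : k ≠ a := by
        rintro rfl
        have hc1 : Multiset.count (2 ^ k) x.cycleType ≤ 1 :=
          Multiset.nodup_iff_count_le_one.1 hnd _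
        have hc2 : Multiset.count (2 ^ k) (x * f⁻¹).cycleType
            = Multiset.count (2 ^ k) x.cycleType - Multiset.count (2 ^ k) f.cycleType := by
          rw [hct, Multiset.count_sub]
        rw [hfct, ← ha, Multiset.count_singleton_self] at hc2
        have hc3 : 1 ≤ Multiset.count (f.support.card) (x * f⁻¹).cycleType :=
          Multiset.one_le_count_iff_mem.2 (by rw [ha]; exact hn)
        rw [← ha] at hc1
        omega
      exact ⟨k, hk1, lt_of_le_of_ne hka hne', rfl⟩
    have hfO : f.support ⊆ O := by
      intro b hb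
      by_contra hbO
      have h1 := hfx b hb
      rw [hx b hbO] at h1
      exact (Perm.mem_support.1 hb) h1
    have hfs : f ∈ symO f.support := fun b hb => Perm.notMem_support.1 hb
    have hy₂s : x * f⁻¹ ∈ symO (O \ f.support) := by
      intro b hb
      by_cases hbf : b ∈ f.support
      · rcases hdisj b with h | h
        · exact h
        · exact absurd h (Perm.mem_support.1 hbf)
      · have hbO : b ∉ O := fun h => hb (Finset.mem_sdiff.2 ⟨h, hbf⟩)
        have h1 : f⁻¹ b = b := by
          rw [Perm.inv_eq_iff_eq]; exact (Perm.notMem_support.1 hbf).symm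
        rw [Perm.mul_apply, h1, hx b hbO]
    have hxeq : x = (x * f⁻¹) * f := by group
    have hsupp : x.support.card = (x * f⁻¹).support.card + f.support.card := by
      conv_lhs => rw [hxeq]
      exact hdisj.card_support_mul
    have hsum : (x * f⁻¹).support.card + 2 ≤ 2 ^ a := by
      rw [← Perm.sum_cycleType]
      exact sum_bound _ a ha1 (Multiset.nodup_of_le hle hnd) hsmall
    have hcard2 : (O \ f.support).card + f.support.card = O.card :=
      Finset.card_sdiff_add_card_eq_card hfO
    have hΩ₂le : (O \ f.support).card ≤ f.support.card := by omega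
    have hfix : (O \ f.support).card = f.support.card → ∃ p ∈ O, x p = p := by
      intro h
      have hlt : x.support.card < O.card := by omega
      obtain ⟨p, hp, hps⟩ := Finset.exists_mem_notMem_of_card_lt_card hlt
      exact ⟨p, hp, Perm.notMem_support.1 hps⟩
    have hH2 : Hyp (O \ f.support) (x * f⁻¹) :=
      ⟨hy₂s, Multiset.nodup_of_le hle hnd, fun n hn => hpow n (Multiset.mem_of_le hle hn),
        by omega⟩
    have hpos : 0 < f.support.card := by rw [ha]; positivity
    have G₂ : Good (O \ f.support) (x * f⁻¹) := ih _ _ (by omega) hH2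
    obtain ⟨ω, hω⟩ := Finset.card_pos.1 hpos
    have hfω : f ω ≠ ω := Perm.mem_support.1 hω
    have hf2 : ∃ k : ℕ, f ^ 2 ^ k = 1 := ⟨a, by rw [← ha, ← hfc.orderOf]; exact pow_orderOf_eq_one f⟩
    have G₁ : Good f.support f := by
      apply good_cyc a f.support f ω ha hfs hω _ hf2
      intro b hb
      exact hfc.sameCycle hfω (Perm.mem_support.1 hb)
    have hxorb : ∀ b ∈ f.support, ∃ i : ℤ, (x ^ i) ω = b := by
      intro b hb
      obtain ⟨i, hi⟩ := hfc.sameCycle hfω (Perm.mem_support.1 hb)
      refine ⟨i, ?_⟩
      have h1 := Perm.cycle_is_cycleOf hω hf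
      rw [← hi, h1, Perm.cycleOf_zpow_apply_self]
    have hxp : mp f.support f.support x := by
      apply pres_of_maps
      intro b hb
      rw [← hfx b hb]
      exact Perm.apply_mem_support.2 hb
    have hd : Disjoint f.support (O \ f.support) := Finset.disjoint_sdiff
    have hOeq : O = f.support ∪ (O \ f.support) := (Finset.union_sdiff_of_subset hfO).symm
    have hyy : f * (x * f⁻¹) ∈ Subgroup.zpowers x := by
      rw [← hdisj.commute.eq, ← hxeq]
      exact Subgroup.mem_zpowers x
    have hx2 := two_elt hpow
    apply glue O f.support (O \ f.support) hd hOeq x f (x * f⁻¹) hx hx2 hfs hy₂s G₁ G₂ hyy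
    · -- P1
      intro Q hQs hQ2 hxQ g hg
      haveI : Fact (Nat.Prime 2) := ⟨Nat.prime_two⟩
      obtain ⟨j, hj⟩ := hQ2.card_orbit ω
      rw [Nat.card_coe_set_eq] at hj
      have hsub1 : (↑f.support : Set α) ⊆ MulAction.orbit Q ω := by
        intro b hb
        obtain ⟨i, hi⟩ := hxorb b (Finset.mem_coe.1 hb)
        exact ⟨⟨x ^ i, Q.zpow_mem hxQ i⟩, hi⟩
      have hsub2 : MulAction.orbit Q ω ⊆ (↑O : Set α) := by
        rintro _ ⟨q, rfl⟩
        exact Finset.mem_coe.2 ((pres_symO (hQs q.2) ω).2 (hfO hω))
      have hn1 := Set.ncard_le_ncard hsub1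
      have hn2 := Set.ncard_le_ncard hsub2
      rw [Set.ncard_coe_finset] at hn1 hn2
      rw [hj, ha] at hn1
      rw [hj] at hn2
      have hja : a ≤ j := (Nat.pow_le_pow_iff_right (by norm_num)).1 hn1
      have hOle : O.card ≤ 2 ^ (a + 1) := by rw [pow_succ]; omega
      have hja2 : j ≤ a + 1 := (Nat.pow_le_pow_iff_right (by norm_num)).1 (hn2.trans hOle)
      by_cases hcase : j = a
      · left
        have hEq : (↑f.support : Set α) = MulAction.orbit Q ω := by
          apply Set.eq_of_subset_of_ncard_le hsub1
          rw [hj, Set.ncard_coe_finset, ha, hcase]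
        apply pres_of_maps
        intro b hb
        obtain ⟨i, hi⟩ := hxorb b hb
        have h1 : g b ∈ MulAction.orbit Q ω :=
          ⟨⟨g * x ^ i, mul_mem hg (Q.zpow_mem hxQ i)⟩, by rw [← hi]; rfl⟩
        rw [← hEq] at h1
        exact Finset.mem_coe.1 h1
      · have hj1 : j = a + 1 := by omega
        have hEq : MulAction.orbit Q ω = (↑O : Set α) := by
          apply Set.eq_of_subset_of_ncard_le hsub2
          rw [hj, Set.ncard_coe_finset, hj1]; exact hOle
        have hOc : O.card = 2 ^ (a + 1) := by
          have := congrArg Set.ncard hEq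
          rw [hj, Set.ncard_coe_finset, hj1] at this
          exact this.symm
        have htrω : ∀ b ∈ O, ∃ q ∈ Q, q ω = b := by
          intro b hb
          have : b ∈ MulAction.orbit Q ω := by rw [hEq]; exact Finset.mem_coe.2 hb
          obtain ⟨q, hq⟩ := this
          exact ⟨q.1, q.2, hq⟩
        have hcardeq : (O \ f.support).card = f.support.card := by
          rw [pow_succ] at hOc; omega
        obtain ⟨p, hpO, hxp'⟩ := hfix hcardeq
        have hpf : p ∉ f.support := by
          intro h
          have := hfx p h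
          rw [hxp'] at this
          exact (Perm.mem_support.1 h) this
        have htrp : ∀ b ∈ O, ∃ q ∈ Q, q p = b := by
          intro b hb
          obtain ⟨q, hq, hqb⟩ := htrω b hb
          obtain ⟨q', hq', hqp⟩ := htrω p hpO
          refine ⟨q * q'⁻¹, mul_mem hq (inv_mem hq'), ?_⟩
          rw [Perm.mul_apply, ← hqp, inv_app, hqb]
        have hnep : ∃ b ∈ O, b ≠ p := ⟨ω, hfO hω, fun h => hpf (h ▸ hω)⟩
        obtain ⟨M, B, hMQ, hBO, hpB, hBmem, hstab, ⟨g₀, hg₀Q, hg₀M⟩, hidx, hpresM, hswapM,
          hcardB⟩ := block O Q hQs hQ2 p hpO htrp hnep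
        have hxM : x ∈ M := hstab x hxQ hxp'
        have hxB : mp B B x := hpresM x hxM
        have hBc : B.card = 2 ^ a := by
          rw [hOc, pow_succ] at hcardB; omega
        have hBdisj : ∀ b ∈ B, b ∉ f.support := by
          intro b hb hbf
          have hsub : insert p f.support ⊆ B := by
            intro b' hb'
            rcases Finset.mem_insert.1 hb' with rfl | hb'
            · exact hpB
            · obtain ⟨i, hi⟩ := hxorb b' hb'
              obtain ⟨i', hi'⟩ := hxorb b hbf
              have e : b' = (x ^ (i - i')) b := by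
                rw [← hi', ← Perm.mul_apply, ← zpow_add, sub_add_cancel, hi]
              rw [e]
              exact (zpow_pres hxB (i - i') b).2 hb
          have h1 := Finset.card_le_card hsub
          rw [Finset.card_insert_of_notMem hpf, hBc, ha] at h1
          omega
        have hBeq : B = O \ f.support := by
          apply Finset.eq_of_subset_of_card_le
          · intro b hb
            exact Finset.mem_sdiff.2 ⟨hBO hb, hBdisj b hb⟩
          · rw [hcardeq, hBc, ha]
        rw [hBeq] at hpresM hswapM
        by_cases hgM : g ∈ M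
        · left
          have hg' : g ∈ symO ((O \ f.support) ∪ f.support) := by
            rw [Finset.union_comm, ← hOeq]; exact hQs hg
          exact pres_compl hd.symm hg' (hpresM g hgM)
        · right
          have h1 := hswapM g hg hgM
          intro b
          have hpb := pres_symO (hQs hg) b
          constructor
          · intro hgb
            have hbO : b ∈ O := hpb.1 (Finset.mem_sdiff.1 hgb).1
            have h2 := (h1 b hbO).1 hgb
            by_contra h3
            exact h2 (Finset.mem_sdiff.2 ⟨hbO, h3⟩)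
          · intro hb
            have hbO := hfO hb
            exact (h1 b hbO).2 (fun h => (Finset.mem_sdiff.1 h).2 hb)
    · -- P3
      intro Λ hΛO hΛc hcond
      rcases hcond with hp | hs
      · by_cases hωΛ : ω ∈ Λ
        · left
          symm
          apply Finset.eq_of_subset_of_card_le
          · intro b hb
            obtain ⟨i, hi⟩ := hxorb b hb
            rw [← hi]
            exact (zpow_pres hp i ω).2 hωΛ
          · rw [hΛc]
        · right
          apply Finset.eq_of_subset_of_card_le
          · intro b hb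
            refine Finset.mem_sdiff.2 ⟨hΛO hb, fun hbf => hωΛ ?_⟩
            obtain ⟨i, hi⟩ := hxorb b hbf
            have e : ω = (x ^ (-i)) b := by
              rw [← hi, ← Perm.mul_apply, ← zpow_add, neg_add_cancel, zpow_zero, Perm.one_apply]
            rw [e]
            exact (zpow_pres hp (-i) b).2 hb
          · rw [hΛc]; exact hΩ₂le
      · exfalso
        have h1 : Λ.card ≤ (O \ Λ).card := by
          apply Finset.card_le_card_of_injOn x
          · intro b hb
            have hbO := hΛO hb
            exact Finset.mem_sdiff.2 ⟨(pres_symO hx b).2 hbO, fun h => (hs b hbO).1 h hb⟩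
          · exact x.injective.injOn
        have h2 : (O \ Λ).card ≤ Λ.card := by
          apply Finset.card_le_card_of_injOn x
          · intro b hb
            obtain ⟨hbO, hbΛ⟩ := Finset.mem_sdiff.1 hb
            exact (hs b hbO).2 hbΛ
          · exact x.injective.injOn
        have h3 := Finset.card_sdiff_add_card_eq_card hΛO
        have hcardeq : (O \ f.support).card = f.support.card := by omega
        obtain ⟨p, hpO, hxp'⟩ := hfix hcardeq
        have h4 := hs p hpO
        rw [hxp'] at h4
        tauto

end Cfsg.Agent.Lib.helper21.Syl2
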