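import Cfsg.Agent.Lib.helper21.Syl2E

set_option autoImplicit false
set_option linter.unusedSectionVars false
open Equiv

namespace Cfsg.Agent.Lib.helper21.Syl2

variable {α : Type*} [DecidableEq α] [Fintype α]

theorem pgroup_comm {x t : Perm α} (hc : t * x = x * t) (hx : ∃ k : ℕ, x ^ 2 ^ k = 1)
    (ht : ∃ k : ℕ, t ^ 2 ^ k = 1) :
    IsPGroup 2 (Subgroup.zpowers x ⊔ Subgroup.zpowers t : Subgroup (Perm α)) := by
  apply IsPGroup.to_sup_of_normal_left' (zp_pgroup hx) (zp_pgroup ht)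
  rw [Subgroup.zpowers_le]
  apply norm_of_conj_le
  intro y hy
  obtain ⟨i, rfl⟩ := Subgroup.mem_zpowers_iff.1 hy
  have h1 : Commute t (x ^ i) := (show Commute t x from hc).zpow_right i
  rw [h1.eq, mul_inv_cancel_right]
  exact hy

theorem swap_comm_fixed {x : Perm α} {a b : α} (ha : x a = a) (hb : x b = b) :
    swap a b * x = x * swap a b := by
  have : Perm.Disjoint (swap a b) x := by
    intro y
    by_cases h1 : y = a
    · right; rw [h1]; exact ha
    · by_cases h2 : y = b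
      · right; rw [h2]; exact hb
      · left; exact swap_apply_of_ne_of_ne h1 h2
  exact this.commute.eq

theorem swaps_disj_comm {a b c d : α} (h1 : a ≠ c) (h2 : a ≠ d) (h3 : b ≠ c) (h4 : b ≠ d) :
    swap a b * swap c d = swap c d * swap a b := by
  have : Perm.Disjoint (swap a b) (swap c d) := by
    intro y
    by_cases ha : y = a
    · right; rw [ha]; exact swap_apply_of_ne_of_ne h1 h2
    · by_cases hb : y = b
      · right; rw [hb]; exact swap_apply_of_ne_of_ne h3 h4
      · left; exact swap_apply_of_ne_of_ne ha hb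
  exact this.commute.eq

theorem exp2_closure {G : Type*} [Group G] (S : Set G) (hc : ∀ a ∈ S, ∀ b ∈ S, a * b = b * a)
    (h2 : ∀ a ∈ S, a * a = 1) : ∀ g ∈ Subgroup.closure S, g * g = 1 := by
  have h1 : Subgroup.closure S ≤ Subgroup.centralizer S :=
    (Subgroup.closure_le _).2 (fun a ha => Subgroup.mem_centralizer_iff.2 (fun b hb => hc b hb a ha))
  have comm : ∀ g ∈ Subgroup.closure S, ∀ h ∈ Subgroup.closure S, g * h = h * g := by
    intro g hg h hh
    have h3 : Subgroup.closure S ≤ Subgroup.centralizer {g} := by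
      rw [Subgroup.closure_le]
      intro a ha
      rw [SetLike.mem_coe, Subgroup.mem_centralizer_iff]
      intro k hk
      rw [Set.mem_singleton_iff] at hk
      rw [hk]
      exact (Subgroup.mem_centralizer_iff.1 (h1 hg) a ha).symm
    exact Subgroup.mem_centralizer_iff.1 (h3 hh) g rfl
  intro g hg
  induction hg using Subgroup.closure_induction with
  | mem a ha => exact h2 a ha
  | one => simp
  | mul a b ha hb iha ihb =>
    calc a * b * (a * b) = a * (b * a) * b := by group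
      _ = a * (a * b) * b := by rw [comm b hb a ha]
      _ = (a * a) * (b * b) := by group
      _ = 1 := by rw [iha, ihb, one_mul]
  | inv a ha iha => rw [← mul_inv_rev, iha, inv_one]

theorem fixpow {x f : Perm α} (hf : f ∈ x.cycleFactorsFinset) {u : α} (hu : u ∈ f.support)
    (d : ℕ) : (x ^ d) u = u ↔ f.support.card ∣ d := by
  have hfc : f.IsCycle := (Perm.mem_cycleFactorsFinset_iff.1 hf).1
  have h1 : f = x.cycleOf u := Perm.cycle_is_cycleOf hu hf
  have h2 : (x ^ d) u = (f ^ d) u := by rw [h1, Perm.cycleOf_pow_apply_self]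
  rw [h2, ← hfc.pow_eq_one_iff' (Perm.mem_support.1 hu), ← orderOf_dvd_iff_pow_eq_one, hfc.orderOf]

theorem pow_mem_supp {x f : Perm α} (hf : f ∈ x.cycleFactorsFinset) {u : α} (hu : u ∈ f.support)
    (d : ℕ) : (x ^ d) u ∈ f.support := by
  have h1 : f = x.cycleOf u := Perm.cycle_is_cycleOf hu hf
  have h2 : (x ^ d) u = (f ^ d) u := by rw [h1, Perm.cycleOf_pow_apply_self]
  rw [h2]
  exact Perm.pow_apply_mem_support.2 hu

theorem swap_pgroup (x : Perm α) (hx2 : ∃ k : ℕ, x ^ 2 ^ k = 1) (f₁ f₂ : Perm α)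
    (hf₁ : f₁ ∈ x.cycleFactorsFinset) (hf₂ : f₂ ∈ x.cycleFactorsFinset) (hne : f₁ ≠ f₂)
    (hcard : f₁.support.card = f₂.support.card) (u v : α) (hu : u ∈ f₁.support)
    (hv : v ∈ f₂.support) :
    ∃ Q : Subgroup (Perm α), IsPGroup 2 Q ∧ x ∈ Q ∧ swap u v ∈ Q := by
  have hdis : Perm.Disjoint f₁ f₂ :=
    Perm.cycleFactorsFinset_pairwise_disjoint x (Finset.mem_coe.2 hf₁) (Finset.mem_coe.2 hf₂) hne
  have hsep : ∀ a ∈ f₁.support, ∀ b ∈ f₂.support, a ≠ b := by
    intro a ha b hb hab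
    rw [← hab] at hb
    rcases hdis a with h | h
    · exact (Perm.mem_support.1 ha) h
    · exact (Perm.mem_support.1 hb) h
  have hiff : ∀ i d : ℕ, (x ^ i) u = (x ^ (i + d)) u ↔ (x ^ i) v = (x ^ (i + d)) v := by
    intro i d
    have e1 : (x ^ (i + d)) u = (x ^ i) ((x ^ d) u) := by rw [pow_add, Perm.mul_apply]
    have e2 : (x ^ (i + d)) v = (x ^ i) ((x ^ d) v) := by rw [pow_add, Perm.mul_apply]
    rw [e1, e2, (x ^ i).injective.eq_iff, (x ^ i).injective.eq_iff, eq_comm, fixpow hf₁ hu,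
      eq_comm (a := v), fixpow hf₂ hv, hcard]
  have hcomm0 : ∀ i d : ℕ,
      swap ((x ^ i) u) ((x ^ i) v) * swap ((x ^ (i + d)) u) ((x ^ (i + d)) v)
        = swap ((x ^ (i + d)) u) ((x ^ (i + d)) v) * swap ((x ^ i) u) ((x ^ i) v) := by
    intro i d
    by_cases h : (x ^ i) u = (x ^ (i + d)) u
    · have h' := (hiff i d).1 h
      rw [← h, ← h']
    · have h' : (x ^ i) v ≠ (x ^ (i + d)) v := fun h'' => h ((hiff i d).2 h'')
      exact swaps_disj_comm h
        (hsep _ (pow_mem_supp hf₁ hu i) _ (pow_mem_supp hf₂ hv (i + d)))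
        (fun h'' => hsep _ (pow_mem_supp hf₁ hu (i + d)) _ (pow_mem_supp hf₂ hv i) h''.symm) h'
  have hcomm : ∀ a ∈ Set.range (fun i : ℕ => swap ((x ^ i) u) ((x ^ i) v)),
      ∀ b ∈ Set.range (fun i : ℕ => swap ((x ^ i) u) ((x ^ i) v)), a * b = b * a := by
    rintro _ ⟨i, rfl⟩ _ ⟨j, rfl⟩
    rcases le_total i j with hij | hij
    · obtain ⟨d, rfl⟩ := Nat.exists_eq_add_of_le hij
      exact hcomm0 i d
    · obtain ⟨d, rfl⟩ := Nat.exists_eq_add_of_le hij
      exact (hcomm0 j d).symm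
  have hsq : ∀ a ∈ Set.range (fun i : ℕ => swap ((x ^ i) u) ((x ^ i) v)), a * a = 1 := by
    rintro _ ⟨i, rfl⟩
    exact swap_mul_self _ _
  have hexp := exp2_closure _ hcomm hsq
  have hN2 : IsPGroup 2
      (Subgroup.closure (Set.range (fun i : ℕ => swap ((x ^ i) u) ((x ^ i) v)))) := by
    rintro ⟨g, hg⟩
    refine ⟨1, ?_⟩
    apply Subtype.ext
    simp only [Subgroup.coe_pow, Subgroup.coe_one, pow_one]
    rw [pow_two]; exact hexp g hg
  have hnorm : ∀ t ∈ Subgroup.closure (Set.range (fun i : ℕ => swap ((x ^ i) u) ((x ^ i) v))),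
      x * t * x⁻¹ ∈ Subgroup.closure (Set.range (fun i : ℕ => swap ((x ^ i) u) ((x ^ i) v))) := by
    have hle : Subgroup.closure (Set.range (fun i : ℕ => swap ((x ^ i) u) ((x ^ i) v)))
        ≤ cj x⁻¹ (Subgroup.closure (Set.range (fun i : ℕ => swap ((x ^ i) u) ((x ^ i) v)))) := by
      rw [Subgroup.closure_le]
      rintro _ ⟨i, rfl⟩
      rw [SetLike.mem_coe, mem_cj, inv_inv, ← swap_apply_apply]
      apply Subgroup.subset_closure
      refine ⟨i + 1, ?_⟩
      simp only [pow_succ', Perm.mul_apply]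
    intro t ht
    have := hle ht
    rwa [mem_cj, inv_inv] at this
  refine ⟨Subgroup.closure (Set.range (fun i : ℕ => swap ((x ^ i) u) ((x ^ i) v)))
      ⊔ Subgroup.zpowers x,
    IsPGroup.to_sup_of_normal_left' hN2 (zp_pgroup hx2)
      (Subgroup.zpowers_le.2 (norm_of_conj_le hnorm)),
    Subgroup.mem_sup_right (Subgroup.mem_zpowers x), ?_⟩
  apply Subgroup.mem_sup_left
  apply Subgroup.subset_closure
  exact ⟨0, by simp⟩

end Cfsg.Agent.Lib.helper21.Syl2
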